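import Cfsg.Agent.Lib.CIT.Nat

/-!
# CIT groups: the amalgam argument
-/

set_option autoImplicit false
set_option linter.unusedSectionVars false

namespace Cfsg.Lib.CIT
open Subgroup Cfsg.Lib Cfsg.Lib.FT
open scoped commutatorElement

/-- walks of given length -/
inductive Wk {α : Type*} (R : α → α → Prop) : ℕ → α → α → Prop
  | zero (a : α) : Wk R 0 a a
  | succ {n : ℕ} {a b c : α} : R a b → Wk R n b c → Wk R (n + 1) a c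

namespace Wk
variable {α : Type*} {R : α → α → Prop} {n m : ℕ} {a b c : α}

theorem trans (h : Wk R n a b) (h' : Wk R m b c) : Wk R (m + n) a c := by
  induction h with
  | zero => exact h'
  | succ h1 _ ih => exact succ h1 (ih h')

theorem one (h : R a b) : Wk R 1 a b := succ h (zero b)

theorem symm (hR : ∀ a b, R a b → R b a) (h : Wk R n a b) : Wk R n b a := by
  induction h with
  | zero => exact zero _
  | succ h1 _ ih => exact Nat.add_comm _ _ ▸ ih.trans (one (hR _ _ h1))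

theorem map (f : α → α) (hf : ∀ a b, R a b → R (f a) (f b)) (h : Wk R n a b) :
    Wk R n (f a) (f b) := by
  induction h with
  | zero => exact zero _
  | succ h1 _ ih => exact succ (hf _ _ h1) ih

theorem cases_succ (h : Wk R (n + 1) a c) : ∃ b, R a b ∧ Wk R n b c := by
  cases h with
  | succ h1 h2 => exact ⟨_, h1, h2⟩

theorem eq_of_zero (h : Wk R 0 a c) : a = c := by
  cases h; rfl

end Wk

variable {G : Type*} [Group G] [Finite G]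

/-- the final configuration: two parabolic subgroups of type `q² : SL₂(q)` -/
structure Tri (H K : Subgroup G) : Prop where
  nH : Nt H (vv H ⊓ vv K)
  nK : Nt K (vv H ⊓ vv K)
  oH : o2 H = vv H
  oK : o2 K = vv K
  tH : tt H (vv H ⊓ vv K) = vv H ⊔ vv K
  tK : tt K (vv H ⊓ vv K) = vv H ⊔ vv K

theorem o2_eq_vv (hC : IsCIT G) {H K : Subgroup G} (hV : vv H ≠ ⊥) (h1 : o2 H ≤ K)
    (h2 : vv K ≤ H) (h3 : ¬ vv K ≤ o2 H) : o2 H = vv H := by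
  obtain ⟨hN, e1, e2⟩ := crit hC hV ((vv_le H).trans h1) h2 h3
  refine le_antisymm (fun d hd => by_contra fun hdV => ?_) (vv_le H)
  obtain ⟨a, ha, haD⟩ := SetLike.not_le_iff_exists.1 h3
  obtain ⟨k, hk, e⟩ := hN.exists_conj
  have h4 : ∀ d ∈ o2 H, ⁅d, a⁆ ∈ vv H := fun d hd => (e1.le (mem_inf.2
    ⟨comm_mem_right ha (le_n_vv K (h1 hd)), comm_mem_left hd (le_n_o2 H (h2 ha))⟩)).1
  have h5 : a ∈ tt H (vv H ⊓ vv K) := e2.ge (mem_sup_left ha)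
  refine hN.false_of_comm (hN.conj' hk) e (o2_p H) (vv_le H) hd hdV (le_n_vv H) h5 haD
    (b := k * a * k⁻¹) ?_ ?_ (h4 d hd) ?_
  · rw [← conj_eq_of_mem hk, ← conj_tt, conj_eq_of_mem hk]; exact conj_mem_conj h5 k
  · exact fun hh => haD (by simpa [mul_assoc] using
      pg_conj_inv_mem_of_mem_normalizer (le_n_o2 H hk) hh)
  · exact mem_of_mem_of_eq (pg_conj_mem_of_mem_normalizer (le_n_vv H hk)
      (h4 _ (pg_conj_inv_mem_of_mem_normalizer (le_n_o2 H hk) hd)))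
      (by simp only [commutatorElement_def]; group)

theorem tri_of_adj (hC : IsCIT G) {H K P : Subgroup G} (hV : vv H ≠ ⊥) (hH : IsSylowIn 2 P H)
    (hK : IsSylowIn 2 P K) (h3 : ¬ vv K ≤ o2 H) : Tri H K ∧ P = vv H ⊔ vv K := by
  have h1 : o2 H ≤ K := (o2_le_sylow hH).trans hK.le
  have h2 : o2 K ≤ H := (o2_le_sylow hK).trans hH.le
  have h4 := not_le_symm hC hV ((vv_le K).trans h2) h3
  have hW : vv K ≠ ⊥ := fun e => h3 (e ▸ bot_le)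
  obtain ⟨n1, -, e1⟩ := crit hC hV ((vv_le H).trans h1) ((vv_le K).trans h2) h3
  obtain ⟨n2, -, e2⟩ := crit hC hW ((vv_le K).trans h2) ((vv_le H).trans h1) h4
  have o1 := o2_eq_vv hC hV h1 ((vv_le K).trans h2) h3
  have o2 := o2_eq_vv hC hW h2 ((vv_le H).trans h1) h4
  rw [o1, sup_comm] at e1
  rw [o2, inf_comm] at e2
  rw [inf_comm] at n2
  refine ⟨⟨n1, n2, o1, o2, e1, e2⟩, ?_⟩
  rw [← e1]
  exact n1.eq_tt hH.isPGroup (e1.le.trans (sup_le ((vv_le H).trans (o2_le_sylow hH))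
    ((vv_le K).trans (o2_le_sylow hK)))) hH.le

/-- sharing a Sylow subgroup -/
def Adj (F : Set (Subgroup G)) (H K : Subgroup G) : Prop :=
  H ∈ F ∧ K ∈ F ∧ ∃ P, IsSylowIn 2 P H ∧ IsSylowIn 2 P K

theorem Adj.symm {F : Set (Subgroup G)} (H K : Subgroup G) (h : Adj F H K) : Adj F K H :=
  ⟨h.2.1, h.1, h.2.2.imp fun _ h => h.symm⟩

/-- no critical pair at distance at most `b` -/
def Mn (F : Set (Subgroup G)) (b : ℕ) : Prop :=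
  ∀ m ≤ b, ∀ γ δ, Wk (Adj F) m γ δ → vv δ ≤ o2 γ

structure Fam (F : Set (Subgroup G)) : Prop where
  cit : IsCIT G
  conj : ∀ H ∈ F, ∀ g : G, g •ᶜ H ∈ F
  ne : ∀ H ∈ F, vv H ≠ ⊥

theorem Mn.le {F : Set (Subgroup G)} {b : ℕ} (hM : Mn F b) {α β : Subgroup G}
    (h : Wk (Adj F) (b + 1) α β) : vv β ≤ α := by
  obtain ⟨γ, ⟨-, -, P, h1, h2⟩, h3⟩ := h.cases_succ
  exact (hM b le_rfl _ _ h3).trans ((o2_le_sylow h2).trans h1.le)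

namespace Fam
variable {F : Set (Subgroup G)} (hF : Fam F)
include hF

theorem wk_conj {n : ℕ} {α β : Subgroup G} (h : Wk (Adj F) n α β) (g : G) :
    Wk (Adj F) n (g •ᶜ α) (g •ᶜ β) :=
  h.map (fun H => g •ᶜ H) fun _ _ ⟨h1, h2, P, h3, h4⟩ =>
    ⟨hF.conj _ h1 g, hF.conj _ h2 g, g •ᶜ P, h3.map_conj g, h4.map_conj g⟩

theorem exists_crit {H : Subgroup G} (hH : H ∈ F)
    (hno : ∀ W : Subgroup G, IsPGroup 2 W →
      (∀ l, (∃ n, Wk (Adj F) n H (l •ᶜ H)) → l ∈ N[W]) → W = ⊥) :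
    ∃ b α β, Wk (Adj F) (b + 1) α β ∧ ¬ vv β ≤ o2 α ∧ Mn F b := by
  classical
  have h1 : ∃ n, ∃ γ δ, Wk (Adj F) n γ δ ∧ ¬ vv δ ≤ o2 γ := by
    by_contra! hh
    have h2 : ∀ l k, (∃ n, Wk (Adj F) n H (l •ᶜ H)) → (∃ n, Wk (Adj F) n H (k •ᶜ H)) →
        ∃ n, Wk (Adj F) n H ((l * k) •ᶜ H) := fun l k ⟨_, h1⟩ ⟨_, h2⟩ =>
      ⟨_, h1.trans (conj_conj l k H ▸ hF.wk_conj h2 l)⟩
    have h3 := hno (⨆ l ∈ {l | ∃ n, Wk (Adj F) n H (l •ᶜ H)}, l •ᶜ vv H)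
      ((o2_p H).to_le (iSup₂_le fun l ⟨n, hl⟩ => conj_vv l H ▸ hh n _ _ hl)) fun l hl => by
        refine pg_mem_normalizer_of_conj_mem fun x hx => ?_
        refine (?_ : l •ᶜ _ ≤ _) (conj_mem_conj hx l)
        rw [map_conj_le_iff]
        refine iSup₂_le fun k hk => ?_
        rw [← map_conj_le_iff, conj_conj]
        exact le_iSup₂_of_le (l * k) (h2 l k hl hk) le_rfl
    refine hF.ne H hH (le_bot_iff.1 (h3 ▸ ?_))
    exact le_iSup₂_of_le 1 ⟨0, by rw [map_conj_one]; exact Wk.zero H⟩ (map_conj_one _).ge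
  obtain ⟨γ, δ, h2, h3⟩ := Nat.find_spec h1
  obtain ⟨b, hb⟩ : ∃ b, Nat.find h1 = b + 1 := Nat.exists_eq_succ_of_ne_zero fun e => by
    rw [e] at h2
    exact h3 (h2.eq_of_zero ▸ vv_le γ)
  refine ⟨b, γ, δ, hb ▸ h2, h3, fun m hm x y hw => by_contra fun hh => ?_⟩
  exact Nat.find_min h1 (by omega : m < Nat.find h1) ⟨x, y, hw, hh⟩

theorem edge {b : ℕ} (hM : Mn F b) {α γ β P : Subgroup G} (hα : α ∈ F) (hγ : γ ∈ F)
    (h1 : IsSylowIn 2 P α) (h2 : IsSylowIn 2 P γ) (hw : Wk (Adj F) b γ β) (hn : ¬ vv β ≤ o2 α) :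
    Nt α (vv α ⊓ vv β) ∧ P = tt α (vv α ⊓ vv β) ∧ vv β ≤ P ∧ ¬ vv α ≤ o2 β := by
  have h3 : Wk (Adj F) (b + 1) α β := Wk.succ ⟨hα, hγ, P, h1, h2⟩ hw
  have h4 : vv β ≤ P := (hM b le_rfl _ _ hw).trans (o2_le_sylow h2)
  obtain ⟨n, -, e⟩ := crit hF.cit (hF.ne α hα) (hM.le (h3.symm Adj.symm)) (hM.le h3) hn
  exact ⟨n, n.eq_tt h1.isPGroup (e.le.trans (sup_le h4 (o2_le_sylow h1))) h1.le, h4,
    not_le_symm hF.cit (hF.ne α hα) (hM.le h3) hn⟩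

theorem not_far (hnb : ∀ α ∈ F, ∀ P, IsSylowIn 2 P α → ∃ γ ∈ F, IsSylowIn 2 P γ ∧ ¬ vv γ ≤ vv α)
    (hcj : ∀ α ∈ F, ∀ γ ∈ F, ∃ x : G, γ = x •ᶜ α) {b : ℕ} (hM : Mn F (b + 1)) {α β : Subgroup G}
    (hw : Wk (Adj F) (b + 2) α β) (hn : ¬ vv β ≤ o2 α) : False := by
  obtain ⟨α₁, ⟨hα, hα₁, P₁, p1, p2⟩, w1⟩ := hw.cases_succ
  obtain ⟨β₁, ⟨hβ, hβ₁, P₂, p3, p4⟩, w2⟩ := (hw.symm Adj.symm).cases_succ
  obtain ⟨n1, e1, l1, hn'⟩ := hF.edge hM hα hα₁ p1 p2 w1 hn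
  obtain ⟨n2, e2, -, -⟩ := hF.edge hM hβ hβ₁ p3 p4 w2 hn'
  obtain ⟨k, hk, e⟩ := n1.exists_conj
  have n3 := n1.conj' hk
  obtain ⟨γ, hγ, p5, hγα⟩ := hnb α hα _ n3.isSylowIn
  have w3 := w2.symm Adj.symm
  by_cases hc : vv γ ≤ o2 β₁
  · obtain ⟨w, hw, hwα⟩ := SetLike.not_le_iff_exists.1 hγα
    obtain ⟨a, ha, haD⟩ := SetLike.not_le_iff_exists.1 hn
    obtain ⟨c, hc1, hc2⟩ := n3.exists_a
    obtain ⟨x, rfl⟩ := hcj α hα γ hγ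
    obtain ⟨-, e4⟩ := (n1.conj x).of_sylow p5
    rw [n3.oz_tt] at e4
    refine n1.false_of_comm n3 e (o2_p α) (vv_le α)
      (hM 1 (by omega) _ _ (Wk.one ⟨hα, hγ, _, n3.isSylowIn, p5⟩) hw) hwα (le_n_vv α)
      (e1.le (l1 ha)) haD hc1 hc2 (pg_commutatorElement_mem_symm ?_) ?_
    · exact ((mem_tt.1 (e2.le (o2_le_sylow p4 (hc hw)))).2.2 a ha).2
    · exact n3.le ((mem_tt.1 (e4.ge hc1)).2.2 w hw)
  · have w4 : Wk (Adj F) (b + 2) γ β₁ := Wk.succ ⟨hγ, hα, _, p5, n3.isSylowIn⟩ w3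
    obtain ⟨n4, e4, -, -⟩ := hF.edge hM hγ hα p5 n3.isSylowIn w3
      (not_le_symm hF.cit (hF.ne _ hβ₁) (hM.le (w4.symm Adj.symm)) hc)
    refine hn' ((n1.sup_eq n3 e).ge.trans ((sup_le ?_ ?_ : _ ≤ vv β₁).trans
      (hM 1 (by omega) _ _ (Wk.one ⟨hβ, hβ₁, _, p3, p4⟩))))
    · rw [inf_comm, ← n2.oz_tt, ← e2]
      exact hF.cit.oz_le_vv (hF.ne _ hβ₁) (o2_le_sylow p4) p4.le
    · rw [← n3.oz_tt, e4, n4.oz_tt]
      exact inf_le_right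

end Fam

/-- pushing up -/
theorem push (hC : IsCIT G) {H T : Subgroup G} (hV : vv H ≠ ⊥) (hT : IsSylowIn 2 T H) {g : G}
    (hg : g ∈ N[T]) (hno : ∀ W : Subgroup G, IsPGroup 2 W → H ≤ N[W] → g ∈ N[W] → W = ⊥) :
    ∃ K, Tri H K ∧ T = vv H ⊔ vv K := by
  have hF : Fam {K | ∃ x : G, K = x •ᶜ H} := ⟨hC, fun _ ⟨x, e⟩ y => ⟨y * x, by rw [e, conj_conj]⟩,
    fun _ ⟨x, e⟩ => by rwa [e, ← conj_vv, Ne, conj_eq_bot_iff]⟩
  have hH : H ∈ {K | ∃ x : G, K = x •ᶜ H} := ⟨1, (map_conj_one H).symm⟩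
  have hT' : IsSylowIn 2 T (g •ᶜ H) := by
    simpa only [conj_eq_iff_mem_normalizer.2 hg] using hT.map_conj g
  obtain ⟨b, α, β, hw, hn, hM⟩ := hF.exists_crit hH fun W hW h => hno W hW
    (fun l hl => h l ⟨0, by rw [conj_eq_of_mem hl]; exact Wk.zero H⟩)
    (h g ⟨1, Wk.one ⟨hH, ⟨g, rfl⟩, T, hT, hT'⟩⟩)
  have key : ∀ (x : G) P, IsSylowIn 2 P (x •ᶜ H) → ∃ y : G, y •ᶜ H = x •ᶜ H ∧ P = y •ᶜ T := by
    intro x P hP
    obtain ⟨k, hk, rfl⟩ := (hT.map_conj x).exists_conj hP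
    exact ⟨k * x, by rw [← conj_conj, conj_eq_of_mem hk], conj_conj _ _ _⟩
  cases b with
  | succ b =>
    refine (hF.not_far ?_ ?_ hM hw hn).elim
    · rintro _ ⟨x, rfl⟩ P hP
      obtain ⟨y, e, rfl⟩ := key x P hP
      refine ⟨(y * g) •ᶜ H, ⟨_, rfl⟩, conj_conj y g H ▸ hT'.map_conj y, fun hh => hV ?_⟩
      rw [← e, ← conj_conj, ← conj_vv, ← conj_vv, ← conj_vv, conj_le_conj_iff] at hh
      exact hno _ (vv_p H) (le_n_vv H)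
        (pg_mem_normalizer_of_conj_mem fun v hv => hh (conj_mem_conj hv g))
    · rintro _ ⟨x, rfl⟩ _ ⟨y, rfl⟩
      exact ⟨y * x⁻¹, by rw [conj_conj, inv_mul_cancel_right]⟩
  | zero =>
    obtain ⟨γ, ⟨⟨x, rfl⟩, -, P, p1, p2⟩, w⟩ := hw.cases_succ
    obtain rfl := w.eq_of_zero
    obtain ⟨y, e, rfl⟩ := key x P p1
    refine ⟨y⁻¹ •ᶜ γ, tri_of_adj hC hV hT ?_ fun hh => hn ?_⟩
    · simpa only [map_conj_inv_map_conj] using p2.map_conj y⁻¹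
    · rwa [← conj_vv, ← le_conj_iff, conj_o2, e] at hh

/-- the case of parabolic subgroups -/
theorem exists_tri (hC : IsCIT G) (S : Sylow 2 G) (hS : (S : Subgroup G) ≠ ⊥)
    (hno : ∀ W : Subgroup G, IsPGroup 2 W →
      (∀ H : Subgroup G, (S : Subgroup G) ≤ H → o2 H ≠ ⊥ → H ≤ N[W]) → W = ⊥) :
    ∃ H K : Subgroup G, Tri H K ∧ IsSylowIn 2 (vv H ⊔ vv K) ⊤ := by
  have hF : Fam {K | vv K ≠ ⊥ ∧ ∃ P, IsSylowIn 2 P ⊤ ∧ P ≤ K} := ⟨hC, fun _ ⟨h, P, h1, h2⟩ y =>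
    ⟨by rwa [← conj_vv, Ne, conj_eq_bot_iff], y •ᶜ P, conj_top y ▸ h1.map_conj y,
      conj_le_conj_iff.2 h2⟩, fun _ h => h.1⟩
  have h0 := IsSylowIn.of_sylow_top S
  have h1 : (S : Subgroup G) ∈ {K | vv K ≠ ⊥ ∧ ∃ P, IsSylowIn 2 P ⊤ ∧ P ≤ K} :=
    ⟨vv_ne_bot fun e => hS (le_bot_iff.1 (e ▸ le_o2 le_rfl le_normalizer S.isPGroup')), S, h0, le_rfl⟩
  obtain ⟨b, α, β, hw, hn, hM⟩ := hF.exists_crit h1 fun W hW h => hno W hW fun H hH hne l hl =>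
    h l ⟨2, Wk.succ (b := H) ⟨h1, ⟨vv_ne_bot hne, S, h0, hH⟩, S, h0.mono le_rfl le_top,
      h0.mono hH le_top⟩ (Wk.one ⟨⟨vv_ne_bot hne, S, h0, hH⟩, hF.conj _ h1 l, l •ᶜ S,
        (h0.mono hH le_top).conj_of_mem_normalizer (le_normalizer hl),
        (h0.mono le_rfl le_top).map_conj l⟩)⟩
  obtain ⟨α₁, ⟨hα, hα₁, P₁, p1, p2⟩, w1⟩ := hw.cases_succ
  obtain ⟨β₁, ⟨hβ, hβ₁, P₂, p3, p4⟩, w2⟩ := (hw.symm Adj.symm).cases_succ
  obtain ⟨n1, e1, -, hn'⟩ := hF.edge hM hα hα₁ p1 p2 w1 hn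
  obtain ⟨n2, e2, -, -⟩ := hF.edge hM hβ hβ₁ p3 p4 w2 hn'
  have key : ∀ {α P : Subgroup G}, (∃ P, IsSylowIn 2 P ⊤ ∧ P ≤ α) → IsSylowIn 2 P α →
      IsSylowIn 2 P ⊤ := fun ⟨Q, q1, q2⟩ hP =>
    q1.of_card_ge hP.isPGroup le_top ((q1.mono q2 le_top).card_eq_card hP).le
  obtain ⟨u, hu, hu1⟩ := exists_ne_one n1.ne
  have hp := hC u (n1.u_sq hu) hu1
  have e3 := (key hα.2 p1).maximal _ hp le_top
    (e1.le.trans ((tt_le_c _ _).trans (centralizer_le_singleton hu)))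
  have e4 := (key hβ.2 p3).maximal _ hp le_top
    (e2.le.trans ((tt_le_c _ _).trans (centralizer_le_singleton (mem_inf.2 ⟨hu.2, hu.1⟩))))
  obtain ⟨h2, h3⟩ := tri_of_adj hC hα.1 p1 (e3.symm.trans e4 ▸ p3) hn
  exact ⟨α, β, h2, h3 ▸ key hα.2 p1⟩

end Cfsg.Lib.CIT
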