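import Cfsg.Agent.Lib.FT.Basic.MinSimple
import Cfsg.Agent.Lib.Quad.BaerSuzuki
import Cfsg.Agent.Lib.Core.Cores
import Cfsg.Agent.Lib.PGroup.Basic
import Cfsg.Agent.Lib.Coprime.Basic

/-!
# Groups whose involution centralizers are 2-groups: natural modules
-/

set_option autoImplicit false
set_option linter.unusedSectionVars false

namespace Cfsg.Lib.CIT
open Subgroup Cfsg.Lib Cfsg.Lib.FT
open scoped commutatorElement

variable {G : Type*} [Group G]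

/-- all involution centralizers are 2-groups -/
def IsCIT (G : Type*) [Group G] : Prop := ∀ t : G, t * t = 1 → t ≠ 1 → IsPGroup 2 C1[t]

/-- `O₂(H)` -/
def o2 (H : Subgroup G) : Subgroup G := (pCore 2 H).map H.subtype

/-- `Ω₁(Z(X))` -/
def oz (X : Subgroup G) : Subgroup G where
  carrier := {x | x ∈ X ∧ x ∈ C[X] ∧ x * x = 1}
  one_mem' := ⟨one_mem _, one_mem _, mul_one _⟩
  mul_mem' := fun {a b} ha hb => ⟨mul_mem ha.1 hb.1, mul_mem ha.2.1 hb.2.1, by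
    rw [mul_assoc, ← mul_assoc b, mem_centralizer_iff.1 ha.2.1 b hb.1, mul_assoc, hb.2.2, mul_one,
      ha.2.2]⟩
  inv_mem' := fun {a} ha => ⟨inv_mem ha.1, inv_mem ha.2.1, by rw [← mul_inv_rev, ha.2.2, inv_one]⟩

/-- `Ω₁(Z(O₂(H)))` -/
def vv (H : Subgroup G) : Subgroup G := oz (o2 H)

/-- the elements normalizing `D` and fixing the coset `D e` -/
def cm (D : Subgroup G) (e : G) : Subgroup G where
  carrier := {x | x ∈ N[D] ∧ ⁅e, x⁆ ∈ D}
  one_mem' := ⟨one_mem _, by simp⟩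
  mul_mem' := fun {a b} ha hb => ⟨mul_mem ha.1 hb.1, mem_of_mem_of_eq
    (mul_mem ha.2 (pg_conj_mem_of_mem_normalizer ha.1 hb.2)) (by
      simp only [commutatorElement_def]; group)⟩
  inv_mem' := fun {a} ha => ⟨inv_mem ha.1, mem_of_mem_of_eq
    (pg_conj_inv_mem_of_mem_normalizer ha.1 (inv_mem ha.2)) (by
      simp only [commutatorElement_def]; group)⟩

/-- the stabilizer of the chain `1 ≤ U ≤ V` -/
def tt (H U : Subgroup G) : Subgroup G := H ⊓ C[U] ⊓ ⨅ v ∈ vv H, cm U v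

theorem mem_oz {X : Subgroup G} {x : G} : x ∈ oz X ↔ x ∈ X ∧ x ∈ C[X] ∧ x * x = 1 := Iff.rfl

theorem mem_cm {D : Subgroup G} {e x : G} : x ∈ cm D e ↔ x ∈ N[D] ∧ ⁅e, x⁆ ∈ D := Iff.rfl

theorem mem_tt {H U : Subgroup G} {x : G} :
    x ∈ tt H U ↔ x ∈ H ∧ x ∈ C[U] ∧ ∀ v ∈ vv H, ⁅v, x⁆ ∈ U := by
  simp only [tt, mem_inf, mem_iInf, mem_cm, and_assoc]
  exact ⟨fun h => ⟨h.1, h.2.1, fun v hv => (h.2.2 v hv).2⟩, fun h => ⟨h.1, h.2.1, fun v hv =>
    ⟨centralizer_le_normalizer _ h.2.1, h.2.2 v hv⟩⟩⟩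

theorem tt_le (H U : Subgroup G) : tt H U ≤ H := fun _ h => (mem_tt.1 h).1

theorem tt_le_c (H U : Subgroup G) : tt H U ≤ C[U] := fun _ h => (mem_tt.1 h).2.1

theorem oz_le (X : Subgroup G) : oz X ≤ X := fun _ h => h.1

theorem o2_le (H : Subgroup G) : o2 H ≤ H := map_subtype_le _

theorem o2_p (H : Subgroup G) : IsPGroup 2 (o2 H) := isPGroup_pCoreOf H

theorem le_n_o2 (H : Subgroup G) : H ≤ N[o2 H] := le_normalizer_pCoreOf H

theorem vv_le (H : Subgroup G) : vv H ≤ o2 H := oz_le _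

theorem vv_le' (H : Subgroup G) : vv H ≤ H := (vv_le H).trans (o2_le H)

theorem vv_p (H : Subgroup G) : IsPGroup 2 (vv H) := (o2_p H).to_le (vv_le H)

theorem vv_sq {H : Subgroup G} {v : G} (h : v ∈ vv H) : v * v = 1 := h.2.2

theorem vv_inv {H : Subgroup G} {v : G} (h : v ∈ vv H) : v⁻¹ = v :=
  inv_eq_of_mul_eq_one_right h.2.2

theorem o2_le_c (H : Subgroup G) : o2 H ≤ C[vv H] := fun d hd =>
  mem_centralizer_iff.2 fun _ hv => (mem_centralizer_iff.1 hv.2.1 d hd).symm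

theorem vv_comm {H : Subgroup G} {v d : G} (hv : v ∈ vv H) (hd : d ∈ o2 H) : v * d = d * v :=
  mem_centralizer_iff.1 (o2_le_c H hd) v hv

theorem conj_oz (g : G) (X : Subgroup G) : g •ᶜ oz X = oz (g •ᶜ X) := by
  ext x
  rw [mem_map_conj, mem_oz, mem_oz, ← conj_centralizer, mem_map_conj, mem_map_conj]
  refine and_congr_right fun _ => and_congr_right fun _ => ?_
  rw [show g⁻¹ * x * g * (g⁻¹ * x * g) = g⁻¹ * (x * x) * g by group]
  exact ⟨fun h => by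
    have := congrArg (fun y => g * y * g⁻¹) h
    simpa [mul_assoc] using this, fun h => by simp [h]⟩

theorem n_oz {X : Subgroup G} {g : G} (h : g ∈ N[X]) : g ∈ N[oz X] := by
  rw [← conj_eq_iff_mem_normalizer] at h ⊢
  rw [conj_oz, h]

theorem le_n_vv (H : Subgroup G) : H ≤ N[vv H] := fun _ h => n_oz (le_n_o2 H h)

theorem comm_iff {a b : G} : ⁅a, b⁆ = 1 ↔ a * b = b * a := commutatorElement_eq_one_iff_mul_comm

theorem conj_comm (g a b : G) : g * ⁅a, b⁆ * g⁻¹ = ⁅g * a * g⁻¹, g * b * g⁻¹⁆ := by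
  simp only [commutatorElement_def]; group

theorem comm_mem_left {V : Subgroup G} {v a : G} (hv : v ∈ V) (ha : a ∈ N[V]) : ⁅v, a⁆ ∈ V :=
  mem_of_mem_of_eq (mul_mem hv (pg_conj_mem_of_mem_normalizer ha (inv_mem hv)))
    (by simp only [commutatorElement_def]; group)

theorem comm_mem_right {V : Subgroup G} {v a : G} (hv : v ∈ V) (ha : a ∈ N[V]) : ⁅a, v⁆ ∈ V :=
  pg_commutatorElement_mem_symm (comm_mem_left hv ha)

variable [Finite G]

theorem conj_o2 (g : G) (H : Subgroup G) : g •ᶜ o2 H = o2 (g •ᶜ H) :=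
  (pCoreOf_map_of_injective _ (MulAut.conj g).injective H).symm

theorem conj_vv (g : G) (H : Subgroup G) : g •ᶜ vv H = vv (g •ᶜ H) := by
  rw [vv, conj_oz, conj_o2, vv]

theorem conj_tt (g : G) (H U : Subgroup G) : g •ᶜ tt H U = tt (g •ᶜ H) (g •ᶜ U) := by
  ext x
  rw [mem_map_conj, mem_tt, mem_tt, ← conj_centralizer, mem_map_conj, mem_map_conj, ← conj_vv]
  refine and_congr_right fun _ => and_congr_right fun _ => ⟨fun h v hv => ?_, fun h v hv => ?_⟩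
  · rw [mem_map_conj] at hv ⊢
    exact mem_of_mem_of_eq (h _ hv) (by simp only [commutatorElement_def]; group)
  · have := h _ (conj_mem_conj hv g)
    rw [mem_map_conj] at this
    exact mem_of_mem_of_eq this (by simp only [commutatorElement_def]; group)

theorem le_o2 {N H : Subgroup G} (hle : N ≤ H) (hn : H ≤ N[N]) (h : IsPGroup 2 N) : N ≤ o2 H :=
  le_pCoreOf hle hn h

theorem o2_le_sylow {P H : Subgroup G} (h : IsSylowIn 2 P H) : o2 H ≤ P :=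
  h.le_of_normalizes (o2_p H) (o2_le H) (h.le.trans (le_n_o2 H))

theorem oz_ne_bot {X : Subgroup G} (hX : IsPGroup 2 X) (h : X ≠ ⊥) : oz X ≠ ⊥ := by
  obtain ⟨x, hx, h2, h3⟩ := pg_exists_fixed_of_order_p hX hX le_normalizer h
  intro e
  have : x ∈ oz X := ⟨hx, h3, by rw [← sq, ← h2, pow_orderOf_eq_one]⟩
  rw [e, mem_bot] at this
  simp [this] at h2

theorem vv_ne_bot {H : Subgroup G} (h : o2 H ≠ ⊥) : vv H ≠ ⊥ := oz_ne_bot (o2_p H) h

theorem exists_ne_one {U : Subgroup G} (h : U ≠ ⊥) : ∃ u ∈ U, u ≠ 1 := by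
  obtain ⟨⟨u, hu⟩, h1⟩ := ne_bot_iff_exists_ne_one.1 h
  exact ⟨u, hu, fun e => h1 (Subtype.ext e)⟩

theorem exists_odd_of_not_p {X : Subgroup G} (h : ¬ IsPGroup 2 X) :
    ∃ y ∈ X, y ≠ 1 ∧ Odd (orderOf y) := by
  by_contra! hh
  refine h (IsPGroup.iff_card.2 ⟨_, (Nat.eq_prime_pow_of_unique_prime_dvd Nat.card_pos.ne'
    fun {q} hq hd => ?_)⟩)
  by_contra h2
  have : Fact q.Prime := ⟨hq⟩
  obtain ⟨y, hy⟩ := exists_prime_orderOf_dvd_card' q hd
  refine hh y y.2 (fun e => ?_) (by rw [Subgroup.orderOf_coe, hy]; exact hq.odd_of_ne_two h2)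
  rw [show y = 1 from Subtype.ext e, orderOf_one] at hy
  exact hq.ne_one hy.symm

/-- the commutator map of an element on an abelian group -/
theorem exists_comm_im {V : Subgroup G} (hV : ∀ x ∈ V, ∀ y ∈ V, x * y = y * x) {a : G}
    (ha : a ∈ N[V]) : ∃ W : Subgroup G, (∀ w, w ∈ W ↔ ∃ v ∈ V, ⁅v, a⁆ = w) ∧
      Nat.card V = Nat.card ↥(V ⊓ C1[a]) * Nat.card W := by
  let φ : V →* G := MonoidHom.mk' (fun v => ⁅(v : G), a⁆) fun x y => by
    have h2 := hV _ y.2 _ (pg_conj_mem_of_mem_normalizer ha (inv_mem x.2))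
    have h3 := hV _ (inv_mem x.2) _ (inv_mem y.2)
    simp only [commutatorElement_def, Subgroup.coe_mul, mul_inv_rev]
    calc (x : G) * y * a * ((y : G)⁻¹ * (x : G)⁻¹) * a⁻¹
        = x * (y * (a * (x : G)⁻¹ * a⁻¹)) * (a * (y : G)⁻¹ * a⁻¹) := by rw [← h3]; group
      _ = _ := by rw [h2]; group
  refine ⟨φ.range, fun w => ⟨fun ⟨v, hv⟩ => ⟨v, v.2, hv⟩, fun ⟨v, hv, e⟩ => ⟨⟨v, hv⟩, e⟩⟩, ?_⟩
  rw [← index_ker, ← φ.ker.card_mul_index]
  congr 1
  have : φ.ker = (V ⊓ C1[a]).subgroupOf V := by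
    ext v
    rw [MonoidHom.mem_ker, mem_subgroupOf, mem_inf, mem_C1]
    exact comm_iff.trans ⟨fun h => ⟨v.2, h⟩, fun h => h.2⟩
  rw [this, Nat.card_congr (subgroupOfEquivOfLe inf_le_left).toEquiv]

theorem card_le_mul {V W : Subgroup G} (hV : ∀ x ∈ V, ∀ y ∈ V, x * y = y * x) {a : G}
    (ha : a ∈ N[V]) (h : ∀ v ∈ V, ⁅v, a⁆ ∈ W) :
    Nat.card V ≤ Nat.card ↥(V ⊓ C1[a]) * Nat.card W := by
  obtain ⟨W', h1, h2⟩ := exists_comm_im hV ha
  rw [h2]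
  refine Nat.mul_le_mul_left _ (card_le_of_le fun w hw => ?_)
  obtain ⟨v, hv, rfl⟩ := (h1 w).1 hw
  exact h v hv

theorem vv_comm' (H : Subgroup G) : ∀ x ∈ vv H, ∀ y ∈ vv H, x * y = y * x :=
  fun _ hx _ hy => vv_comm hx (vv_le H hy)

theorem card_mul_le_of_inf {V A B : Subgroup G} (hV : ∀ x ∈ V, ∀ y ∈ V, x * y = y * x)
    (hA : A ≤ V) (hB : B ≤ V) (h : A ⊓ B = ⊥) : Nat.card ↥(A ⊔ B) = Nat.card A * Nat.card B := by
  rw [← pg_card_sup_mul_card_inf (fun a ha => centralizer_le_normalizer _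
    (mem_centralizer_iff.2 fun b hb => hV b (hB hb) a (hA ha))), h, card_bot, mul_one]

namespace IsCIT
variable (hC : IsCIT G)
include hC

theorem p_of_le {t : G} (h2 : t * t = 1) (h1 : t ≠ 1) {X : Subgroup G} (h : X ≤ C1[t]) :
    IsPGroup 2 X := (hC t h2 h1).to_le h

theorem p_of_le_c {U X : Subgroup G} (hU : IsPGroup 2 U) (h1 : U ≠ ⊥) (h : X ≤ C[U]) :
    IsPGroup 2 X := by
  obtain ⟨u, hu, hu1⟩ := exists_ne_one (oz_ne_bot hU h1)
  exact hC.p_of_le hu.2.2 hu1 (h.trans (centralizer_le_singleton hu.1))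

theorem eq_one {E : Subgroup G} (hE : IsPGroup 2 E) {e y : G} (he : e ∈ E) (h1 : e ≠ 1)
    (h : y * e = e * y) (hy : Odd (orderOf y)) : y = 1 := by
  have h2 : IsPGroup 2 (zpowers y) := hC.p_of_le_c (hE.to_le (zpowers_le.2 he))
    (by simpa using h1) (zpowers_le.2 (by rw [centralizer_zpowers]; exact mem_C1.2 h))
  obtain ⟨k, hk⟩ := h2 ⟨y, mem_zpowers y⟩
  have h3 : orderOf y ∣ 2 ^ k := orderOf_dvd_of_pow_eq_one (congrArg Subtype.val hk)
  exact orderOf_eq_one_iff.1 (Nat.Coprime.eq_one_of_dvd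
    ((Nat.coprime_two_right.2 hy).pow_right k) h3)

/-- elements of odd order do not fix a non-trivial coset in a 2-group -/
theorem p_cm {D E : Subgroup G} (hE : IsPGroup 2 E) (hD : D ≤ E) {e : G} (he : e ∈ E)
    (h1 : e ∉ D) : IsPGroup 2 (cm D e) := by
  by_contra h
  obtain ⟨y, hy, hy1, hyo⟩ := exists_odd_of_not_p h
  have h2 : CoprimeAct (zpowers y) D := CoprimeAct.of_isPGroup_right (hE.to_le hD)
    (by rw [Nat.card_zpowers]; exact hyo.not_two_dvd_nat) (zpowers_le.2 hy.1)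
  obtain ⟨l, hl, c, hc, rfl⟩ := h2.exists_eq_mul_centralizer (x := e)
    fun a ha => ((zpowers_le.2 hy : zpowers y ≤ cm D e) ha).2
  refine hy1 (hC.eq_one hE ((mul_mem_cancel_left (hD hl)).1 he) (fun e => h1 ?_)
    (mem_centralizer_iff.1 hc y (mem_zpowers y)) hyo)
  rwa [e, mul_one]

theorem mem_o2 {H : Subgroup G} (hV : vv H ≠ ⊥) {x : G} (hx : x ∈ H) (h : x ∈ C[vv H]) :
    x ∈ o2 H :=
  le_o2 inf_le_left (pg_le_normalizer_inf le_normalizer (pg_le_normalizer_centralizer (le_n_vv H)))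
    (hC.p_of_le_c (vv_p H) hV inf_le_right) (mem_inf.2 ⟨hx, h⟩)

theorem oz_le_vv {H P : Subgroup G} (hV : vv H ≠ ⊥) (h1 : o2 H ≤ P) (h2 : P ≤ H) : oz P ≤ vv H :=
  fun _ hx => ⟨hC.mem_o2 hV (h2 hx.1) (centralizer_mono ((vv_le H).trans h1) hx.2.1),
    centralizer_mono h1 hx.2.1, hx.2.2⟩

theorem exists_inf_eq_bot {H : Subgroup G} {a : G} (ha : a ∈ H) (h : a ∉ o2 H) :
    ∃ g ∈ H, vv H ⊓ C1[a] ⊓ g •ᶜ (vv H ⊓ C1[a]) = ⊥ := by
  by_contra! hh
  refine h (baerSuzuki_of H ha fun g hg => ?_)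
  obtain ⟨v, hv, hv1⟩ := exists_ne_one (hh g hg)
  rw [conj_inf, conj_centralizer_singleton] at hv
  refine hC.p_of_le (vv_sq hv.1.1) hv1 ((closure_le _).2 ?_)
  rintro _ (rfl | rfl)
  · exact mem_C1_comm.1 hv.1.2
  · exact mem_C1_comm.1 hv.2.2

theorem card_sq_le {H : Subgroup G} {a : G} (ha : a ∈ H) (h : a ∉ o2 H) :
    Nat.card ↥(vv H ⊓ C1[a]) ^ 2 ≤ Nat.card (vv H) := by
  obtain ⟨g, hg, h1⟩ := hC.exists_inf_eq_bot ha h
  have h2 : g •ᶜ (vv H ⊓ C1[a]) ≤ vv H :=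
    map_conj_le_of_mem_normalizer inf_le_left (le_n_vv H hg)
  have := card_mul_le_of_inf (vv_comm' H) inf_le_left h2 h1
  rw [card_conj] at this
  rw [sq, ← this]
  exact card_le_of_le (sup_le inf_le_left h2)

/-- two elements fixing a non-trivial coset of a 2-group have a common fixed point on `V` -/
theorem inf_ne_bot {H D E : Subgroup G} (hV : vv H ≠ ⊥) (hE : IsPGroup 2 E) (hD : D ≤ E) {e : G}
    (he : e ∈ E) (h1 : e ∉ D) (hn : H ≤ N[D]) {a b : G} (ha : a ∈ H) (hb : b ∈ H)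
    (ha' : ⁅e, a⁆ ∈ D) (hb' : ⁅e, b⁆ ∈ D) : vv H ⊓ C1[a] ⊓ (vv H ⊓ C1[b]) ≠ ⊥ := by
  have h2 := pg_inf_centralizer_ne_bot (vv_p H) ((hC.p_cm hE hD he h1).to_le
    (inf_le_right : H ⊓ cm D e ≤ _)) (inf_le_left.trans (le_n_vv H)) hV
  refine fun e => h2 (le_bot_iff.1 (e ▸ ?_))
  exact le_inf (inf_le_inf_left _ (centralizer_le_singleton (mem_inf.2 ⟨ha, hn ha, ha'⟩)))
    (inf_le_inf_left _ (centralizer_le_singleton (mem_inf.2 ⟨hb, hn hb, hb'⟩)))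

end IsCIT

end Cfsg.Lib.CIT
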