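import Cfsg.Agent.Lib.CIT.Plane
import Cfsg.Agent.Lib.Suzuki.Field

/-!
# CIT groups: coordinates in the projective plane
-/

set_option autoImplicit false
set_option linter.unusedSectionVars false

namespace Cfsg.Lib.CIT
open Subgroup Cfsg.Lib Cfsg.Lib.FT
open scoped commutatorElement

variable {G : Type*} [Group G] [Finite G]

namespace Pl
variable {H K : Subgroup G} (h : Pl H K)
include h

theorem exists_root {l : Subgroup G} (hl : Cj K l) (hi : Inc H l) (hne : K ≠ l) {a : G}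
    (ha : a ∈ vv H ⊔ vv K) : ∃ b ∈ vv H ⊓ vv l, ∃ w ∈ vv K, b * w = a := by
  obtain ⟨v, hv, w, hw, rfl⟩ := h.exists_mul ha
  obtain ⟨u, hu, u', hu', rfl⟩ := (h.flag (Cj.refl H) hl hi).nH.exists_dec h.nH
    (by rw [inf_comm, h.inf_eq_bot hl hne]) hv
  exact ⟨u, hu, _, mul_mem hu'.2 hw, (mul_assoc _ _ _).symm⟩

theorem trans_on {l x y : Subgroup G} (hl : Cj K l) (hi : Inc H l) (hne : K ≠ l) (hx : Cj H x)
    (hy : Cj H y) (h1 : Inc x K) (h2 : Inc y K) (h3 : H ≠ x) (h4 : H ≠ y) :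
    ∃ a ∈ vv H ⊓ vv l, a •ᶜ x = y := by
  obtain ⟨z, hz, hz1⟩ := exists_ne_one h2
  obtain ⟨u, hu, v, hv, rfl⟩ := h.symm.nH.exists_dec (h.symm.flag (Cj.refl K) hx h1.symm).nH
    (h.symm.inf_eq_bot hx h3) hz.2
  have hv1 : v ≠ 1 := fun e => h4 (h.uniq (Cj.refl H) hy (by simpa [e] using hu.2) hz.1 hz1)
  obtain ⟨a, ha, e⟩ := h.symm.nH.exists_conj_eq hv.1
    (fun hh => h3 (h.uniq (Cj.refl H) hx hh.2 hv.2 hv1)) hu
  rw [h.symm.tH, sup_comm] at ha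
  obtain ⟨b, hb, w, hw, rfl⟩ := h.exists_root hl hi hne ha
  refine ⟨b, hb, h.uniq (hx.conj b) hy (mem_of_mem_of_eq (mem_vv_conj hv.2 b) ?_) hz.1 hz1⟩
  rw [← e, mul_assoc b w, vv_comm' K _ hw _ hv.1]; group

theorem trans_off {x y : Subgroup G} (hx : Cj H x) (hy : Cj H y) (h1 : ¬ Inc x K) (h2 : ¬ Inc y K) :
    ∃ a ∈ vv K, a •ᶜ x = y := by
  obtain ⟨m, hm, h3, h4⟩ := h.join hx hy
  obtain ⟨p, hp, h5, h6⟩ := h.symm.join (Cj.refl K) hm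
  obtain ⟨a, ha, e⟩ := (h.flag hp hm h6.symm).trans_on hm.symm h5.symm (fun e => h1 (e ▸ h3))
    (hp.symm.trans hx) (hp.symm.trans hy) h3 h4 (fun e => h1 (e ▸ h5.symm))
    fun e => h2 (e ▸ h5.symm)
  exact ⟨a, ha.2, e⟩

theorem semireg {x : Subgroup G} (hx : Cj H x) (h1 : ¬ Inc x K) {a b : G} (ha : a ∈ vv K)
    (hb : b ∈ vv K) (e : a •ᶜ x = b •ᶜ x) : a = b := by
  by_contra h2
  refine h1 (h.inc_of_mem' hx (Cj.refl K) (mul_mem (inv_mem hb) ha)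
    (fun e => h2 (inv_mul_eq_one.1 e).symm) ((h.mem_iff_eq hx).1 ?_))
  rw [← conj_conj, e, map_conj_inv_map_conj]

theorem inc_iff {x : Subgroup G} {g : G} (hg : g ∈ K) : Inc (g •ᶜ x) K ↔ Inc x K := by
  conv_lhs => rw [← conj_eq_of_mem hg, inc_conj]

section torus
variable {q o : Subgroup G} (hq : Cj H q) (ho : Cj H o) (h1 : Inc q K) (h2 : H ≠ q) (h3 : ¬ Inc o K)
include hq ho h1 h2 h3

theorem torus_trans {u u' : G} (hu : u ∈ vv H ⊓ vv K) (hu1 : u ≠ 1) (hu' : u' ∈ vv H ⊓ vv K)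
    (hu1' : u' ≠ 1) : ∃ d ∈ H ⊓ q ⊓ o, d * u * d⁻¹ = u' := by
  obtain ⟨k, hk, e⟩ := h.nK.trans hu.2 hu1 hu'.2 hu1'
  have hkH := h.mem_of_conj hu.1 hu1 (e ▸ hu'.1)
  obtain ⟨l, hl, hi, hne⟩ := h.exists_other
  obtain ⟨a, ha, e1⟩ := h.trans_on hl hi hne (hq.conj k) hq ((h.inc_iff hk).2 h1) h1
    (fun e => h2 (conj_inj.1 ((conj_eq_of_mem hkH).trans e))) h2
  have haK := h.t_le' (mem_sup_left ha.1)
  obtain ⟨w, hw, e2⟩ := h.trans_off (ho.conj (a * k)) ho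
    (by rwa [h.inc_iff (mul_mem haK hk)]) h3
  refine ⟨w * (a * k), ⟨⟨mul_mem (h.t_le (mem_sup_right hw)) (mul_mem (vv_le' H ha.1) hkH),
    mul_mem (h.le_of_inc hq (Cj.refl K) h1 hw) ((h.mem_iff_eq hq).1 (by rw [← conj_conj, e1]))⟩,
    (h.mem_iff_eq ho).1 (by rw [← conj_conj, e2])⟩, ?_⟩
  rw [show w * (a * k) * u * (w * (a * k))⁻¹ = w * (a * (k * u * k⁻¹) * a⁻¹) * w⁻¹ by group, e,
    vv_comm' H _ ha.1 _ hu'.1, mul_inv_cancel_right, vv_comm' K _ hw _ hu'.2, mul_inv_cancel_right]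

theorem torus_fpf {d u : G} (hd : d ∈ H ⊓ q ⊓ o) (hu : u * u = 1) (hu1 : u ≠ 1)
    (e : d * u = u * d) : d = 1 := by
  refine eq_one_of_p (h.cit u hu hu1) (mem_C1.2 e) (odd_of_no_invol (fun z hz h4 => ?_) hd)
  by_contra h5
  obtain ⟨p, l, -, hl, -, z2⟩ := h.exists_flag h4 h5
  rcases h.uniq_line (Cj.refl H) hq (Cj.refl K) hl h.inc h1
    (h.inc_of_mem' (Cj.refl H) hl z2 h5 hz.1.1) (h.inc_of_mem' hq hl z2 h5 hz.1.2) with h6 | h6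
  exacts [h2 h6, h3 (h6 ▸ h.inc_of_mem' ho hl z2 h5 hz.2)]

theorem exists_swap {l : Subgroup G} (hl : Cj K l) (h4 : Inc H l) (h5 : Inc o l) {a : G}
    (ha : a ∈ vv H ⊓ vv l) (ha1 : a ≠ 1) : ∃ t : G, t * t = 1 ∧ t •ᶜ H = q ∧ t •ᶜ q = H ∧ t ∈ o ∧
      t ∈ K ∧ ∀ u ∈ vv q ⊓ vv K, t * u * t⁻¹ = ⁅u, a⁆ := by
  have h0 := Cj.refl H
  have hK := Cj.refl K
  have hne : K ≠ l := fun e => h3 (e ▸ h5)
  have haK := h.t_le' (mem_sup_left ha.1)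
  obtain ⟨m, hm, h6, h7⟩ := h.join hq ho
  have hf := h.flag hq hK h1
  have h8 : q ≠ a •ᶜ q := fun e => (h.uniq_line h0 hq hK hl h.inc h1 h4
    (h.inc_of_mem' hq hl ha.2 ha1 ((h.mem_iff_eq hq).1 e.symm))).elim h2 hne
  obtain ⟨b, hb, e⟩ := hf.trans_on hm h6 (fun e => h3 (e ▸ h7)) hq.symm ((Cj.refl q).conj a)
    h.inc ((h.inc_iff haK).2 h1) h2.symm h8
  have hbK := hf.t_le' (mem_sup_left hb.1)
  have e1 : b * a * b * (b * a * b) = 1 := by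
    rw [show b * a * b * (b * a * b) = b * (a * (b * b) * a) * b by group, vv_sq hb.1, mul_one,
      vv_sq ha.1, mul_one, vv_sq hb.1]
  have e2 : (b * a * b) •ᶜ H = q := by
    rw [← conj_conj, e, conj_conj, mul_assoc, vv_sq ha.1, mul_one, conj_eq_of_mem (vv_le' q hb.1)]
  have e3 : (b * a * b) •ᶜ q = H := by rw [← e2, conj_conj, e1, map_conj_one]
  have h9 := mul_mem (mul_mem hbK haK) hbK
  refine ⟨b * a * b, e1, e2, e3, mul_mem (mul_mem (h.le_of_inc ho hm h7 hb.2)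
    (h.le_of_inc ho hl h5 ha.2)) (h.le_of_inc ho hm h7 hb.2), h9, fun u hu => ?_⟩
  have k1 : ⁅u, a⁆ ∈ vv H ⊓ vv K := pg_commutatorElement_mem_symm
    ((mem_tt.1 (h.tH.ge (mem_sup_right hu.2))).2.2 a ha.1)
  have k2 : ⁅b, ⁅u, a⁆⁆ ∈ vv q ⊓ vv K := (mem_tt.1 (hf.tH.ge (mem_sup_right k1.2))).2.2 b hb.1
  have k3 : b * a * b * u * (b * a * b)⁻¹ ∈ vv H ⊓ vv K :=
    ⟨e3 ▸ mem_vv_conj hu.1 _, pg_conj_mem_of_mem_normalizer (le_n_vv K h9) hu.2⟩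
  have k4 : b * a * b * u * (b * a * b)⁻¹ = u * ⁅b, ⁅u, a⁆⁆ * ⁅u, a⁆ := by
    have c := vv_comm' q _ hb.1 _ hu.1
    calc b * a * b * u * (b * a * b)⁻¹ = b * a * (b * u) * b⁻¹ * a⁻¹ * b⁻¹ := by group
      _ = (b * u) * (u⁻¹ * a * u * a⁻¹) * b⁻¹ := by (conv_lhs => rw [c]); group
      _ = _ := by
        rw [c, vv_inv hu.1]
        simp only [commutatorElement_def, vv_inv hu.1]; group
  have k5 : u * ⁅b, ⁅u, a⁆⁆ = 1 := by
    have := (mul_mem_cancel_right k1).1 (k4 ▸ k3)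
    have h10 := mul_mem hu k2
    exact mem_bot.1 (h.symm.inf_eq_bot hq h2 ▸ mem_inf.2 ⟨⟨this.2, this.1⟩, h10.2, h10.1⟩)
  rw [k4, k5, one_mul]

theorem torus_inv {t : G} (t1 : t •ᶜ H = q) (t2 : t •ᶜ q = H) (t3 : t ∈ o) (t4 : t ∈ K) {d : G}
    (hd : d ∈ H ⊓ q ⊓ o) : t * d * (t * d) = 1 := by
  have h0 := Cj.refl H
  have hK := Cj.refl K
  obtain ⟨l, hl, h4, h5⟩ := h.join h0 ho
  obtain ⟨u, hu, hu1⟩ := exists_ne_one h1
  have hdK : d ∈ K := (h.symm.mem_iff_eq hK).1 ((h.uniq_line h0 hq (hK.conj d) hK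
    (by rw [← conj_eq_of_mem hd.1.1, inc_conj]; exact h.inc)
    (by rw [← conj_eq_of_mem hd.1.2, inc_conj]; exact h1) h.inc h1).resolve_left h2)
  have e1 : (t * d) •ᶜ q = H := by rw [← conj_conj, conj_eq_of_mem hd.1.2, t2]
  obtain ⟨a, ha, e⟩ := h.nK.tr u hu.2 (fun hh => h2 (h.uniq h0 hq hh.1 hu.1 hu1))
    (t * d * u * (t * d)⁻¹) ⟨e1 ▸ mem_vv_conj hu.1 _,
      pg_conj_mem_of_mem_normalizer (le_n_vv K (mul_mem t4 hdK)) hu.2⟩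
  rw [h.tK] at ha
  obtain ⟨b, hb, w, hw, rfl⟩ := h.exists_root hl h4 (fun e => h3 (e ▸ h5)) ha
  have e2 : ⁅u, b⁆ = t * d * u * (t * d)⁻¹ := by
    rw [← e, commutatorElement_def, commutatorElement_def, vv_inv hu.2, mul_assoc u (b * w),
      mul_assoc b, vv_comm' K _ hw _ hu.2]; group
  obtain ⟨s, ss, s1, s2, s3, -, s5⟩ := h.exists_swap hq ho h1 h2 h3 hl h4 h5 hb (by
    rintro rfl; exact hu1 (conj_eq_one_iff.1 (e2.symm.trans (commutatorElement_one_right u))))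
  have := h.torus_fpf hq ho h1 h2 h3 (d := s⁻¹ * (t * d)) ⟨⟨(h.mem_iff_eq h0).1 (by
    rw [← conj_conj, ← conj_conj, conj_eq_of_mem hd.1.1, t1, ← s1, map_conj_inv_map_conj]),
    (h.mem_iff_eq hq).1 (by rw [← conj_conj, e1, ← s2, map_conj_inv_map_conj])⟩,
    o.mul_mem (inv_mem s3) (mul_mem t3 hd.2)⟩ (vv_sq hu.1) hu1 (by
      rw [mul_assoc, ← inv_mul_cancel_right (t * d * u) (t * d), ← e2, ← s5 u hu]; group)
  rw [← inv_mul_eq_one.1 this, ss]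

end torus

theorem exists_w : ∃ (F : Type) (_ : Field F) (_ : Fintype F) (w : F → F → G),
    Fintype.card F = Nat.card ↥(vv H ⊓ vv K) ∧ (2 : F) = 0 ∧
    (∀ s t s' t', w (s + s') (t + t') = w s t * w s' t') ∧ (∀ s t, w s t = 1 → s = 0 ∧ t = 0) ∧
    (∀ z, z ∈ vv K ↔ ∃ s t, w s t = z) ∧
    ∀ p, Cj H p → Inc p K → ∃ α β : F, (α ≠ 0 ∨ β ≠ 0) ∧ ∀ s t, w s t ∈ vv p ↔ α * s + β * t = 0 := by
  have h0 := Cj.refl H
  have hK := Cj.refl K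
  obtain ⟨q, hq, h1, h2⟩ := h.symm.exists_other
  replace h1 := h1.symm
  obtain ⟨l, hl, h4, hne⟩ := h.exists_other
  have hf := h.flag h0 hl h4
  obtain ⟨o, ho, h5, h6⟩ := hf.symm.exists_other
  replace h5 := h5.symm
  have h3 : ¬ Inc o K := fun hh => (h.uniq_line h0 ho hK hl h.inc hh h4 h5).elim h6 hne
  have h7 : ¬ Inc q l := fun hh => (h.uniq_line h0 hq hK hl h.inc h1 h4 hh).elim h2 hne
  obtain ⟨c, hc, hc1⟩ := exists_ne_one h4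
  obtain ⟨t, tt, t1, t2, t3, t4, t5⟩ := h.exists_swap hq ho h1 h2 h3 hl h4 h5 hc hc1
  have ti : t⁻¹ = t := inv_eq_of_mul_eq_one_right tt
  have inv : ∀ d ∈ H ⊓ q ⊓ o, t * d * t = d⁻¹ := fun d hd => eq_inv_of_mul_eq_one_left (by
    rw [← h.torus_inv hq ho h1 h2 h3 t1 t2 t3 t4 hd]; group)
  obtain ⟨u, hu, hu1⟩ := exists_ne_one h.inc
  obtain ⟨n, F, _, _, a, κ, -, -, fc⟩ := Suz.exists_FC (E := vv H ⊓ vv K) (K := H ⊓ q ⊓ o)
    (fun z hz => vv_sq hz.1) (fun d hd => pg_le_normalizer_inf (inf_le_left.trans (le_n_vv H))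
      (inf_le_right.trans (le_n_vv K)) (mem_inf.2 ⟨hd.1.1, (h.symm.mem_iff_eq hK).1
        ((h.uniq_line h0 hq (hK.conj d) hK (by rw [← conj_eq_of_mem hd.1.1, inc_conj]; exact h.inc)
          (by rw [← conj_eq_of_mem hd.1.2, inc_conj]; exact h1) h.inc h1).resolve_left h2)⟩))
    (fun x hx y hy => by
      rw [← inv_inj, ← inv _ (mul_mem hx hy), mul_inv_rev, ← inv x hx, ← inv y hy,
        show t * x * t * (t * y * t) = t * x * (t * t) * y * t by group, tt]; group) hu hu1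
    (fun v hv hv1 => by
      obtain ⟨d, hd, e⟩ := h.torus_trans hq ho h1 h2 h3 hu hu1 hv hv1
      exact ⟨d⁻¹, inv_mem hd, by rwa [inv_inv]⟩)
    fun d hd e => h.torus_fpf hq ho h1 h2 h3 hd (vv_sq hu.1) hu1 e
  have hb : ∀ z, z ∈ vv q ⊓ vv K ↔ ∃ y, t * a y * t⁻¹ = z := fun z => by
    rw [← t1, ← conj_eq_of_mem t4, ← conj_vv, ← conj_vv, ← conj_inf, mem_map_conj, fc.a_mem]
    exact exists_congr fun y => ⟨fun e => by rw [e]; group, fun e => by rw [← e]; group⟩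
  have hb' : ∀ y, t * a y * t⁻¹ ∈ vv q ⊓ vv K := fun y => (hb _).2 ⟨y, rfl⟩
  have hU := h.symm.inf_eq_bot hq h2
  have k1 : ∀ s, a s ∈ vv q → s = 0 := fun s hs => fc.a_eq_one.1 (mem_bot.1 (hU ▸ mem_inf.2
    ⟨⟨(fc.mem_E s).2, (fc.mem_E s).1⟩, (fc.mem_E s).2, hs⟩))
  have k2 : ∀ s, t * a s * t⁻¹ ∈ vv H → s = 0 := fun s hs => fc.a_eq_one.1
    (conj_eq_one_iff.1 ((eq_bot_iff_forall _).1 hU _ ⟨⟨(hb' s).2, hs⟩, (hb' s).2, (hb' s).1⟩))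
  refine ⟨F, inferInstance, inferInstance, fun s y => a s * (t * a y * t⁻¹),
    by rw [fc.card_E, Nat.card_eq_fintype_card], fc.two, fun s y s' y' => ?_, fun s y e => ?_,
    fun z => ⟨fun hz => ?_, ?_⟩, fun p hp hi => ?_⟩
  · beta_reduce
    rw [fc.a_add, fc.a_add, ← conj_mul, mul_assoc, mul_assoc (a s), ← mul_assoc (a s'),
      ← vv_comm' K _ (hb' y).2 _ (fc.mem_E s').2, mul_assoc _ (a s')]
  · have := k2 y (eq_inv_of_mul_eq_one_right e ▸ inv_mem (fc.mem_E s).1)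
    exact ⟨by simpa [this, fc.a_zero, fc.a_eq_one] using e, this⟩
  · obtain ⟨x, hx, y, hy, rfl⟩ := h.symm.nH.exists_dec (h.symm.flag hK hq h1.symm).nH hU hz
    obtain ⟨s, rfl⟩ := (fc.a_mem x).1 ⟨hx.2, hx.1⟩
    obtain ⟨s', rfl⟩ := (hb y).1 ⟨hy.2, hy.1⟩
    exact ⟨s, s', rfl⟩
  · rintro ⟨s, y, rfl⟩
    exact mul_mem (fc.mem_E s).2 (hb' y).2
  by_cases hpH : H = p
  · subst hpH
    refine ⟨0, 1, Or.inr one_ne_zero, fun s y => ?_⟩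
    rw [mul_mem_cancel_left (mem_inf.1 (fc.mem_E s)).1, zero_mul, zero_add, one_mul]
    exact ⟨k2 y, fun e => by simp [e, fc.a_zero]⟩
  obtain ⟨x, hx, rfl⟩ := h.trans_on hl h4 hne hq hp h1 hi h2 hpH
  obtain ⟨μ, hμ⟩ : ∃ μ, ∀ y, x⁻¹ * (t * a y * t⁻¹) * x = a (μ * y) * (t * a y * t⁻¹) := by
    by_cases hx1 : x = 1
    · exact ⟨0, fun y => by simp [hx1, fc.a_zero]⟩
    obtain ⟨d, hd, e⟩ := hf.torus_trans ho hq h5 h6 h7 hc hc1 (inv_mem hx) (by simpa using hx1)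
    obtain ⟨μ, e'⟩ := (fc.κ_mem d⁻¹).1 (inv_mem (mem_inf.2 ⟨⟨hd.1.1, hd.2⟩, hd.1.2⟩))
    obtain rfl := inv_eq_iff_eq_inv.2 e'
    obtain rfl := inv_eq_iff_eq_inv.2 e
    have k3 : ∀ y, c * (t * a y * t⁻¹) * c⁻¹ = a y * (t * a y * t⁻¹) := fun y => by
      have := t5 _ (hb' y)
      rw [show t * (t * a y * t⁻¹) * t⁻¹ = (t * t) * a y * (t * t)⁻¹ by group, tt, one_mul, inv_one,
        mul_one] at this
      rw [← vv_comm' K _ (hb' y).2 _ (fc.mem_E y).2]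
      have e3 := vv_sq (hb' y).2
      have e4 := vv_inv (hb' y).2
      generalize t * a y * t⁻¹ = B at this e3 e4 ⊢
      rw [this, commutatorElement_def, e4, ← mul_assoc, ← mul_assoc, ← mul_assoc, e3, one_mul]
    have k4 : ∀ y, κ μ * (t * a y * t⁻¹) * (κ μ)⁻¹ = t * a (μ * y) * t⁻¹ := fun y => by
      have e5 : κ μ * t = t * (κ μ)⁻¹ := by
        rw [← inv _ (fc.mem_K μ), ← mul_assoc, ← mul_assoc, tt, one_mul]
      rw [← fc.act, show κ μ * (t * a y * t⁻¹) * (κ μ)⁻¹ = κ μ * t * a y * (κ μ * t)⁻¹ by group, e5]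
      group
    refine ⟨μ * μ, fun y => ?_⟩
    rw [mul_assoc (μ : F), ← fc.act, inv_inv,
      show (κ μ)⁻¹ * c * (κ μ)⁻¹⁻¹ * (t * a y * t⁻¹) * ((κ μ)⁻¹ * c * (κ μ)⁻¹⁻¹)⁻¹ =
        (κ μ)⁻¹ * (c * (κ μ * (t * a y * t⁻¹) * (κ μ)⁻¹) * c⁻¹) * κ μ by group, k4, k3, ← k4]
    group
  refine ⟨1, μ, Or.inl one_ne_zero, fun s y => ?_⟩
  rw [← conj_vv, mem_map_conj, show x⁻¹ * (a s * (t * a y * t⁻¹)) * x =
    x⁻¹ * (a s * x) * (x⁻¹ * (t * a y * t⁻¹) * x) by group, hμ,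
    ← vv_comm' H _ hx.1 _ (fc.mem_E s).1, inv_mul_cancel_left, ← mul_assoc, ← fc.a_add,
    mul_mem_cancel_right (mem_inf.1 (hb' y)).1, one_mul]
  exact ⟨k1 _, fun e => by simp [e, fc.a_zero]⟩

end Pl

end Cfsg.Lib.CIT
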