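import Mathlib

/-!
# Elations of the Desarguesian plane
-/

set_option autoImplicit false

namespace Cfsg.Lib.CIT
open Matrix

variable {F : Type*} [Field F]

/-- linear dependence of three vectors -/
def Dep (x y w : Fin 3 → F) : Prop :=
  ∃ a b c : F, (a ≠ 0 ∨ b ≠ 0 ∨ c ≠ 0) ∧ a • x + b • y + c • w = 0

theorem dep_of_dot {φ x y w : Fin 3 → F} (h : φ ≠ 0) (h1 : φ ⬝ᵥ x = 0) (h2 : φ ⬝ᵥ y = 0)
    (h3 : φ ⬝ᵥ w = 0) : Dep x y w := by
  classical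
  obtain ⟨v, hv, e⟩ := (exists_vecMul_eq_zero_iff (M := Matrix.of ![x, y, w])).2
    (exists_mulVec_eq_zero_iff.1 ⟨φ, h, by
      ext i; fin_cases i <;> simp [mulVec, dotProduct_comm _ φ, h1, h2, h3]⟩)
  refine ⟨v 0, v 1, v 2, by_contra fun hh => hv ?_, ?_⟩
  · push Not at hh
    ext i; fin_cases i <;> simp [hh]
  · ext i
    simpa [vecMul, dotProduct, Fin.sum_univ_three] using congrFun e i

theorem exists_not_dep {φ e : Fin 3 → F} (hφ : φ ≠ 0) (he : e ≠ 0) (h : φ ⬝ᵥ e = 0) :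
    ∃ x y, φ ⬝ᵥ x ≠ 0 ∧ φ ⬝ᵥ y ≠ 0 ∧ ¬ Dep e x y := by
  classical
  obtain ⟨x, hx⟩ : ∃ x, φ ⬝ᵥ x ≠ 0 := by
    by_contra! hh; exact hφ (dotProduct_eq_zero _ hh)
  have h1 : e ⨯₃ x ≠ 0 := crossProduct_ne_zero_iff_linearIndependent.2
    (LinearIndependent.pair_iff.2 fun s t e1 => by
      have h2 := congrArg (φ ⬝ᵥ ·) e1
      simp only [dotProduct_add, dotProduct_smul, h, smul_eq_mul, mul_zero, zero_add,
        dotProduct_zero, mul_eq_zero, hx, or_false] at h2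
      simpa [h2, he] using e1)
  obtain ⟨y, hy⟩ : ∃ y, (e ⨯₃ x) ⬝ᵥ y ≠ 0 := by
    by_contra! hh; exact h1 (dotProduct_eq_zero _ hh)
  have h2 : (e ⨯₃ x) ⬝ᵥ e = 0 := by rw [dotProduct_comm, dot_self_cross]
  have h3 : (e ⨯₃ x) ⬝ᵥ x = 0 := by rw [dotProduct_comm, dot_cross_self]
  have key : ∀ y, (e ⨯₃ x) ⬝ᵥ y ≠ 0 → ¬ Dep e x y := by
    rintro y hy ⟨a, b, c, h4, e1⟩
    have h5 := congrArg ((e ⨯₃ x) ⬝ᵥ ·) e1
    simp only [dotProduct_add, dotProduct_smul, h2, h3, smul_eq_mul, mul_zero, zero_add,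
      dotProduct_zero, mul_eq_zero, hy, or_false] at h5
    have h6 := congrArg (φ ⬝ᵥ ·) e1
    simp only [dotProduct_add, dotProduct_smul, h, h5, smul_eq_mul, mul_zero, zero_add, zero_mul,
      add_zero, dotProduct_zero, mul_eq_zero, hx, or_false] at h6
    simp [h5, h6, he] at e1
    simp [h5, h6, e1] at h4
  by_cases h4 : φ ⬝ᵥ y = 0
  · exact ⟨x, y + x, hx, by simpa [h4] using hx, key _ (by simpa [h3] using hy)⟩
  · exact ⟨x, y, hx, h4, key y hy⟩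

theorem elation {α : Type*} {P : (Fin 3 → F) → α} {σ : α → α} {φ e : Fin 3 → F}
    (hP : ∀ x y, x ≠ 0 → y ≠ 0 → (P x = P y ↔ ∃ c : F, y = c • x)) (hσ : Function.Injective σ)
    (hφ : φ ≠ 0) (he : e ≠ 0) (h : φ ⬝ᵥ e = 0)
    (h0 : ∀ x, x ≠ 0 → φ ⬝ᵥ x = 0 → σ (P x) = P x)
    (h1 : ∀ x, x ≠ 0 → ∃ y, y ≠ 0 ∧ σ (P x) = P y ∧ Dep e x y)
    (h2 : ∀ x y x' y' (a b : F), x ≠ 0 → y ≠ 0 → x' ≠ 0 → y' ≠ 0 → a • x + b • y ≠ 0 →
      φ ⬝ᵥ (a • x + b • y) = 0 → σ (P x) = P x' → σ (P y) = P y' → Dep x' y' (a • x + b • y)) :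
    ∃ c : F, ∀ x, x ≠ 0 → σ (P x) = P (x + (c * φ ⬝ᵥ x) • e) := by
  have ne : ∀ x, φ ⬝ᵥ x ≠ 0 → x ≠ 0 := fun x hx e => hx (by simp [e])
  have ne' : ∀ x (c : F), φ ⬝ᵥ x ≠ 0 → x + c • e ≠ 0 := fun x c hx => ne _ (by simpa [h] using hx)
  have kA : ∀ x, φ ⬝ᵥ x ≠ 0 → ∃ c : F, σ (P x) = P (x + (c * φ ⬝ᵥ x) • e) := by
    intro x hx
    obtain ⟨y, hy, e1, a, b, c, h3, e2⟩ := h1 x (ne x hx)
    have hc : c ≠ 0 := by
      rintro rfl
      have h4 := congrArg (φ ⬝ᵥ ·) e2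
      simp [h, hx] at h4
      simp [h4, he] at e2
      simp [h4, e2] at h3
    have hb : b ≠ 0 := by
      rintro rfl
      obtain ⟨d, e3⟩ := (hP _ _ he (ne x hx)).1 (hσ (((h0 e he h).trans ((hP _ _ he hy).2
        ⟨-a / c, by
          ext i; have := congrFun e2 i; simp at this ⊢; field_simp; linear_combination this⟩)).trans
        e1.symm))
      simp [e3, h] at hx
    refine ⟨a / b / φ ⬝ᵥ x, e1.trans ((hP _ _ hy (ne' x _ hx)).2 ⟨-c / b, ?_⟩)⟩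
    ext i; have := congrFun e2 i; simp at this ⊢; field_simp; linear_combination this
  choose! C hC using kA
  have kB : ∀ x y, φ ⬝ᵥ x ≠ 0 → φ ⬝ᵥ y ≠ 0 → ¬ Dep e x y → C x = C y := by
    intro x y hx hy hd
    obtain ⟨a, b, c, h3, e1⟩ := h2 x y _ _ (φ ⬝ᵥ y) (-φ ⬝ᵥ x) (ne x hx) (ne y hy) (ne' x _ hx)
      (ne' y _ hy) (fun e => hd ⟨0, _, _, Or.inr (Or.inl hy), by rwa [zero_smul, zero_add]⟩)
      (by simp [mul_comm]) (hC x hx) (hC y hy)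
    have h4 : ¬ (a * (C x * φ ⬝ᵥ x) + b * (C y * φ ⬝ᵥ y) ≠ 0 ∨ a + c * φ ⬝ᵥ y ≠ 0 ∨
        b - c * φ ⬝ᵥ x ≠ 0) := fun hh => hd ⟨_, _, _, hh, by
      rw [← e1]; ext i; simp; ring⟩
    push Not at h4
    obtain ⟨h4, h5, h6⟩ := h4
    have hc : c ≠ 0 := by
      rintro rfl
      simp at h5 h6
      simp [h5, h6] at h3
    have : c * (φ ⬝ᵥ x) * (φ ⬝ᵥ y) * (C x - C y) = 0 := by
      linear_combination (C x * φ ⬝ᵥ x) * h5 + (C y * φ ⬝ᵥ y) * h6 - h4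
    simpa [hc, hx, hy, sub_eq_zero] using this
  obtain ⟨x, y, hx, hy, hd⟩ := exists_not_dep hφ he h
  refine ⟨C x, fun w hw => ?_⟩
  by_cases h3 : φ ⬝ᵥ w = 0
  · simpa [h3] using h0 w hw h3
  rw [hC w h3]
  by_cases h4 : Dep e x w
  swap
  · rw [kB x w hx h3 h4]
  rw [kB x y hx hy hd, kB y w hy h3]
  rintro ⟨a, b, c, h5, e1⟩
  obtain ⟨a', b', c', h6, e2⟩ := h4
  have h7 : ¬ (c * a' - c' * a ≠ 0 ∨ c * b' ≠ 0 ∨ -(c' * b) ≠ 0) := fun hh => hd ⟨_, _, _, hh, by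
    ext i; have := congrFun e1 i; have := congrFun e2 i; simp at *
    linear_combination c * this - c' * ‹a * e i + b * y i + c * w i = 0›⟩
  push Not at h7
  have h8 := congrArg (φ ⬝ᵥ ·) e1
  have h9 := congrArg (φ ⬝ᵥ ·) e2
  simp only [dotProduct_add, dotProduct_smul, h, smul_eq_mul, mul_zero, zero_add,
    dotProduct_zero] at h8 h9
  have hc : c ≠ 0 := by
    rintro rfl
    simp [hy] at h8
    simp [h8, he] at e1
    simp [h8, e1] at h5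
  have hb : b' = 0 := by simpa [hc] using h7.2.1
  simp [hb, h3] at h9
  simp [hb, h9, he] at e2
  simp [hb, h9, e2] at h6

theorem mem_center_of_eigen (A : SpecialLinearGroup (Fin 3) F)
    (h : ∀ x : Fin 3 → F, x ≠ 0 → ∃ c : F, A.1 *ᵥ x = c • x) : A ∈ Subgroup.center _ := by
  obtain ⟨a, ha⟩ := h ![1, 0, 0] (by simp)
  obtain ⟨b, hb⟩ := h ![0, 1, 0] (by simp)
  obtain ⟨c, hc⟩ := h ![0, 0, 1] (by simp)
  obtain ⟨d, hd⟩ := h ![1, 1, 1] (by simp)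
  simp only [funext_iff, Fin.forall_fin_succ, mulVec, dotProduct, Fin.sum_univ_three] at ha hb hc hd
  simp at ha hb hc hd
  have : A.1 = d • (1 : Matrix (Fin 3) (Fin 3) F) := by
    ext i j; fin_cases i <;> fin_cases j <;> simp_all
  exact Subgroup.mem_center_iff.2 fun B => Subtype.ext (by simp [this])

theorem exists_smul_of_eqn {x y : Fin 3 → F} {α β : F} (hx : x ≠ 0) (h1 : x 2 = 0) (h5 : y 2 = 0)
    (h2 : α ≠ 0 ∨ β ≠ 0) (h4 : α * x 0 + β * x 1 = 0) (h6 : α * y 0 + β * y 1 = 0) :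
    ∃ c : F, y = c • x := by
  have h7 : x 0 * y 1 = x 1 * y 0 := by
    rcases h2 with h2 | h2 <;> apply mul_left_cancel₀ h2
    · linear_combination y 1 * h4 - x 1 * h6
    · linear_combination x 0 * h6 - y 0 * h4
  by_cases h8 : x 0 = 0
  · have h9 : x 1 ≠ 0 := fun e => hx (by ext i; fin_cases i <;> simp [h1, h8, e])
    refine ⟨y 1 / x 1, ?_⟩
    ext i; fin_cases i <;> simp_all
  · refine ⟨y 0 / x 0, ?_⟩
    ext i; fin_cases i <;> simp [h1, h5, h8]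
    field_simp; linear_combination h7

theorem sl_mulVec (A B : SpecialLinearGroup (Fin 3) F) (x : Fin 3 → F) :
    A.1 *ᵥ B.1 *ᵥ x = (A * B).1 *ᵥ x := mulVec_mulVec _ _ _

theorem sl_one_mulVec (x : Fin 3 → F) : (1 : SpecialLinearGroup (Fin 3) F).1 *ᵥ x = x :=
  one_mulVec x

theorem sl_mulVec_ne_zero (A : SpecialLinearGroup (Fin 3) F) {x : Fin 3 → F} (hx : x ≠ 0) :
    A.1 *ᵥ x ≠ 0 := fun e => hx (by
  rw [← sl_one_mulVec x, ← inv_mul_cancel A, ← sl_mulVec, e, mulVec_zero])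

theorem exists_torus [Finite F] (two : (2 : F) = 0) (a : Fˣ) :
    ∃ T D : SpecialLinearGroup (Fin 3) F, D * T = T * D ∧ T * T = 1 ∧ D ^ Nat.card Fˣ = 1 ∧
      T ∉ Subgroup.center _ ∧ (D ∈ Subgroup.center _ → a ^ 3 = 1) := by
  obtain ⟨T, hT⟩ : ∃ T : SpecialLinearGroup (Fin 3) F, T.1 = !![1, 1, 0; 0, 1, 0; 0, 0, 1] :=
    ⟨⟨_, by simp [det_fin_three]⟩, rfl⟩
  obtain ⟨D, hD⟩ : ∃ D : SpecialLinearGroup (Fin 3) F,
      D.1 = diagonal ![(a : F), a, (a⁻¹ * a⁻¹ : Fˣ)] :=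
    ⟨⟨diagonal ![(a : F), a, (a⁻¹ * a⁻¹ : Fˣ)], by simp [Fin.prod_univ_three]; field_simp⟩, rfl⟩
  refine ⟨T, D, Subtype.ext ?_, Subtype.ext ?_, Subtype.ext ?_, fun h => ?_, fun h => ?_⟩
  · change D.1 * T.1 = T.1 * D.1
    ext i j; fin_cases i <;> fin_cases j <;> simp [hT, hD, mul_apply, Fin.sum_univ_three]
  · change T.1 * T.1 = 1
    ext i j; fin_cases i <;> fin_cases j <;> simp [hT]
    linear_combination two
  · change D.1 ^ _ = 1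
    rw [hD, diagonal_pow, ← diagonal_one]
    congr 1; ext k
    fin_cases k <;> simp [← Units.val_pow_eq_pow_val, mul_pow]
  · obtain ⟨r, -, e⟩ := Matrix.SpecialLinearGroup.mem_center_iff.1 h
    simpa [hT] using congrFun (congrFun e 0) 1
  · obtain ⟨r, -, e⟩ := Matrix.SpecialLinearGroup.mem_center_iff.1 h
    have k5 := congrFun (congrFun e 0) 0
    have k6 := congrFun (congrFun e 2) 2
    simp [hD] at k5 k6
    ext
    rw [k5] at k6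
    simp only [Units.val_pow_eq_pow_val, Units.val_one]
    field_simp at k6
    exact k6

end Cfsg.Lib.CIT
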