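import Cfsg.Agent.Lib.CIT.Coord
import Cfsg.Agent.Lib.CIT.Lin
import Cfsg.Agent.Lib.Suzuki.U3Fin
import Cfsg.Agent.Lib.Core.SLn

/-!
# CIT groups: identification of `L₃(4)`
-/

set_option autoImplicit false
set_option linter.unusedSectionVars false

namespace Cfsg.Lib.CIT
open Subgroup Cfsg.Lib Cfsg.Lib.FT Matrix

variable {G : Type*} [Group G] [Finite G]

/-- homogeneous coordinates -/
structure Hom (H K : Subgroup G) {F : Type} [Field F] (P : (Fin 3 → F) → Subgroup G) : Prop where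
  cj : ∀ x, x ≠ 0 → Cj H (P x)
  surj : ∀ p, Cj H p → ∃ x, x ≠ 0 ∧ P x = p
  eq_iff : ∀ x y, x ≠ 0 → y ≠ 0 → (P x = P y ↔ ∃ c : F, y = c • x)
  line : ∀ m, Cj K m → ∃ φ, φ ≠ 0 ∧ ∀ x, x ≠ 0 → (Inc (P x) m ↔ φ ⬝ᵥ x = 0)

namespace Pl
variable {H K : Subgroup G} (h : Pl H K)
include h

theorem exists_hom : ∃ (F : Type) (_ : Field F) (_ : Fintype F) (P : (Fin 3 → F) → Subgroup G),
    Fintype.card F = Nat.card ↥(vv H ⊓ vv K) ∧ (2 : F) = 0 ∧ Hom H K P := by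
  classical
  obtain ⟨F, _, _, w, hF, two, add, inj, mem, eqn⟩ := h.exists_w
  have hK := Cj.refl K
  have hw : ∀ s t, w s t ∈ vv K := fun s t => (mem _).2 ⟨s, t, rfl⟩
  have pt2 : ∀ {p m}, Cj H p → Cj K m → Inc p K → Inc p m → K ≠ m →
      ∃ o, Cj H o ∧ Inc o m ∧ ¬ Inc o K ∧ p ≠ o := fun {p m} hp hm h1 h2 h3 => by
    obtain ⟨o, ho, h4, h5⟩ := (h.flag hp hm h2).symm.exists_other
    exact ⟨o, hp.trans ho, h4.symm, fun hh =>
      (h.uniq_line hp (hp.trans ho) hK hm h1 hh h2 h4.symm).elim h5 h3, h5⟩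
  obtain ⟨o, ho, ho'⟩ : ∃ o, Cj H o ∧ ¬ Inc o K := by
    obtain ⟨l, hl, h4, hne⟩ := h.exists_other
    obtain ⟨o, h1, -, h2, -⟩ := pt2 (Cj.refl H) hl h.inc h4 hne
    exact ⟨o, h1, h2⟩
  have : ∀ z, z * z = 1 → z ≠ 1 → ∃ p, Cj H p ∧ z ∈ vv p := fun z h1 h2 => by
    obtain ⟨p, -, h3, -, h4, -⟩ := h.exists_flag h1 h2
    exact ⟨p, h3, h4⟩
  choose! ctr c1 c2 using this
  obtain ⟨P, hP⟩ : ∃ P : (Fin 3 → F) → Subgroup G, ∀ x, P x =
    if x 2 = 0 then ctr (w (x 0) (x 1)) else w (x 0 / x 2) (x 1 / x 2) •ᶜ o := ⟨_, fun _ => rfl⟩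
  have f0 : ∀ x : Fin 3 → F, x ≠ 0 → x 2 = 0 → w (x 0) (x 1) ≠ 1 := fun x hx h2 e => hx (by
    ext i; fin_cases i <;> simp [h2, inj _ _ e])
  have cj : ∀ x, x ≠ 0 → Cj H (P x) := fun x hx => by
    rw [hP]; split_ifs with h2
    exacts [c1 _ (vv_sq (hw _ _)) (f0 x hx h2), ho.conj _]
  have fA : ∀ x q, x ≠ 0 → x 2 = 0 → Cj H q → (P x = q ↔ w (x 0) (x 1) ∈ vv q) := by
    intro x q hx h2 hq
    have h3 := c2 _ (vv_sq (hw _ _)) (f0 x hx h2)
    have h4 := cj x hx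
    rw [hP, if_pos h2] at h4 ⊢
    exact ⟨fun e => e ▸ h3, fun e => h.uniq h4 hq h3 e (f0 x hx h2)⟩
  have fB : ∀ x, x ≠ 0 → (Inc (P x) K ↔ x 2 = 0) := fun x hx =>
    ⟨fun hh => by_contra fun h2 => ho' (by rwa [hP, if_neg h2, h.inc_iff (vv_le' K (hw _ _))] at hh),
      fun h2 => inc_of_mem ((fA x _ hx h2 (cj x hx)).1 rfl) (hw _ _) (f0 x hx h2)⟩
  have winj : ∀ s t s' t', w s t = w s' t' → s = s' ∧ t = t' := fun s t s' t' e => by
    obtain ⟨h1, h2⟩ := inj (s + s') (t + t') (by rw [add, e, vv_sq (hw _ _)])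
    exact ⟨by linear_combination h1 - s' * two, by linear_combination h2 - t' * two⟩
  refine ⟨F, inferInstance, inferInstance, P, hF, two, cj, fun p hp => ?_, fun x y hx hy => ?_,
    fun m hm => ?_⟩
  · by_cases hi : Inc p K
    · obtain ⟨z, hz, hz1⟩ := exists_ne_one hi
      obtain ⟨s, t, rfl⟩ := (mem z).1 hz.2
      have : ![s, t, 0] ≠ 0 := fun e => hz1 (by
        have e0 := congrFun e 0; have e1 := congrFun e 1
        simp at e0 e1
        simpa [e0, e1] using add 0 0 0 0)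
      exact ⟨_, this, (fA _ p this rfl hp).2 hz.1⟩
    · obtain ⟨a, ha, rfl⟩ := h.trans_off ho hp ho' hi
      obtain ⟨s, t, rfl⟩ := (mem a).1 ha
      exact ⟨![s, t, 1], by simp, by simp [hP]⟩
  · by_cases h1 : x 2 = 0
    · obtain ⟨α, β, h2, h3⟩ := eqn _ (cj x hx) ((fB x hx).2 h1)
      have h4 := (h3 _ _).1 ((fA x _ hx h1 (cj x hx)).1 rfl)
      refine ⟨fun e => ?_, ?_⟩
      · have h5 := (fB y hy).1 (e ▸ (fB x hx).2 h1)
        exact exists_smul_of_eqn hx h1 h5 h2 h4 ((h3 _ _).1 ((fA y _ hy h5 (cj x hx)).1 e.symm))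
      · rintro ⟨c, rfl⟩
        exact ((fA _ _ hy (by simp [h1]) (cj x hx)).2 ((h3 _ _).2 (by
          simp only [Pi.smul_apply, smul_eq_mul]; linear_combination c * h4))).symm
    · refine ⟨fun e => ?_, ?_⟩
      · have h2 : y 2 ≠ 0 := fun h2 => h1 ((fB x hx).1 (e ▸ (fB y hy).2 h2))
        rw [hP, hP, if_neg h1, if_neg h2] at e
        obtain ⟨h3, h4⟩ := winj _ _ _ _ (h.semireg ho ho' (hw _ _) (hw _ _) e)
        refine ⟨y 2 / x 2, ?_⟩
        field_simp at h3 h4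
        ext i; fin_cases i <;> simp <;> field_simp
        exacts [by linear_combination -h3, by linear_combination -h4]
      · rintro ⟨c, rfl⟩
        have hc : c ≠ 0 := fun e => hy (by simp [e])
        simp [hP, h1, hc, mul_div_mul_left]
  by_cases hne : K = m
  · exact ⟨![0, 0, 1], by simp, fun x hx => by
      rw [← hne, fB x hx]; simp [dotProduct, Fin.sum_univ_three]⟩
  obtain ⟨q, hq, h1, h2⟩ := h.symm.join hK hm
  obtain ⟨α, β, h3, h4⟩ := eqn q hq h1.symm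
  obtain ⟨p, hp, h5, h6, h7⟩ := pt2 hq hm h1.symm h2.symm hne
  obtain ⟨a, ha, rfl⟩ := h.trans_off ho hp ho' h6
  obtain ⟨s, t, rfl⟩ := (mem a).1 ha
  refine ⟨![α, β, α * s + β * t], fun e => ?_, fun x hx => ?_⟩
  · have e0 := congrFun e 0; have e1 := congrFun e 1
    simp at e0 e1
    simp [e0, e1] at h3
  simp only [dotProduct, Fin.sum_univ_three, cons_val]
  by_cases h8 : x 2 = 0
  · rw [h8, mul_zero, add_zero, ← h4, ← fA x q hx h8 hq]
    exact ⟨fun hh => (h.uniq_line (cj x hx) hq hK hm ((fB x hx).2 h8) h1.symm hh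
      h2.symm).resolve_right hne, fun e => e ▸ h2.symm⟩
  have e : P x = w (x 0 / x 2 + s) (x 1 / x 2 + t) •ᶜ w s t •ᶜ o := by
    rw [hP, if_neg h8, conj_conj, ← add, add_assoc, add_assoc, ← two_mul, ← two_mul, two]; simp
  have e2 : α * x 0 + β * x 1 + (α * s + β * t) * x 2 = 0 ↔
      w (x 0 / x 2 + s) (x 1 / x 2 + t) ∈ vv q := by
    rw [h4, show α * x 0 + β * x 1 + (α * s + β * t) * x 2 =
      (α * (x 0 / x 2 + s) + β * (x 1 / x 2 + t)) * x 2 by field_simp; ring, mul_eq_zero_iff_right h8]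
  rw [e2]
  refine ⟨fun hh => ?_, fun hh => ?_⟩
  · obtain ⟨b, hb, e3⟩ := (h.flag hq hm h2.symm).trans_on hm.symm h1.symm (Ne.symm hne)
      (hq.symm.trans hp) (hq.symm.trans (cj x hx)) h5 hh h7
      fun e => h8 ((fB x hx).1 (e ▸ h1.symm))
    exact h.semireg hp h6 hb.2 (hw _ _) (e3.trans e) ▸ hb.1
  · rw [e, ← conj_eq_of_mem (h.symm.le_of_inc hm hq h2 hh), inc_conj]
    exact h5

variable {F : Type} [Field F] {P : (Fin 3 → F) → Subgroup G} (c : Hom H K P)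
include c

theorem elat {e φ : Fin 3 → F} {m : Subgroup G} (he : e ≠ 0) (hφ : φ ≠ 0) (hm : Cj K m)
    (h1 : ∀ x, x ≠ 0 → (Inc (P x) m ↔ φ ⬝ᵥ x = 0)) (h2 : φ ⬝ᵥ e = 0) {z : G} (h3 : z ∈ vv (P e))
    (h4 : z ∈ vv m) : ∃ a : F, ∀ x, x ≠ 0 → z •ᶜ P x = P (x + (a * φ ⬝ᵥ x) • e) := by
  have h0 : ∀ x, x ≠ 0 → φ ⬝ᵥ x = 0 → z •ᶜ P x = P x := fun x hx e =>
    conj_eq_of_mem (h.le_of_inc (c.cj x hx) hm ((h1 x hx).2 e) h4)
  refine elation (σ := fun p => z •ᶜ p) c.eq_iff (fun _ _ => conj_inj.1) hφ he h2 h0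
    (fun x hx => ?_) fun x y x' y' a b hx hy hx' hy' hw h5 e1 e2 => ?_
  · obtain ⟨y, hy, e1⟩ := c.surj _ ((c.cj x hx).conj z)
    obtain ⟨l, hl, h5, h6⟩ := h.join (c.cj e he) (c.cj x hx)
    obtain ⟨ψ, hψ, h7⟩ := c.line l hl
    refine ⟨y, hy, e1.symm, dep_of_dot hψ ((h7 e he).1 h5) ((h7 x hx).1 h6) ((h7 y hy).1 ?_)⟩
    rwa [e1, ← conj_eq_of_mem (h.symm.le_of_inc hl (c.cj e he) h5.symm h3), inc_conj]
  · obtain ⟨l, hl, h6, h7⟩ := h.join (c.cj x hx) (c.cj y hy)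
    obtain ⟨ψ, -, h8⟩ := c.line l hl
    obtain ⟨χ, hχ, h9⟩ := c.line _ (hl.conj z)
    refine dep_of_dot hχ ((h9 _ hx').1 (e1 ▸ (inc_conj z).2 h6)) ((h9 _ hy').1
      (e2 ▸ (inc_conj z).2 h7)) ((h9 _ hw).1 (h0 _ hw h5 ▸ (inc_conj z).2 ((h8 _ hw).2 ?_)))
    simp [(h8 x hx).1 h6, (h8 y hy).1 h7]

end Pl

theorem Pl.iso [IsSimpleGroup G] {H K : Subgroup G} (h : Pl H K) :
    ∃ (F : Type) (_ : Field F) (_ : Fintype F), Fintype.card F = 4 ∧
      Nonempty (G ≃* ProjectiveSpecialLinearGroup (Fin 3) F) := by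
  classical
  obtain ⟨F, _, _, P, hF, two, c⟩ := h.exists_hom
  let Δ : Subgroup (G × SpecialLinearGroup (Fin 3) F) :=
    { carrier := {p | ∀ x, x ≠ 0 → p.1 •ᶜ P x = P (p.2.1 *ᵥ x)}
      one_mem' := fun x _ => (map_conj_one _).trans (congrArg P (sl_one_mulVec x).symm)
      mul_mem' := fun {a b} ha hb x hx => by
        rw [Prod.fst_mul, ← conj_conj, hb x hx, ha _ (sl_mulVec_ne_zero _ hx), sl_mulVec]; rfl
      inv_mem' := fun {a} ha x hx => by
        rw [Prod.fst_inv, eq_comm, ← conj_eq_iff, ha _ (sl_mulVec_ne_zero _ hx), sl_mulVec,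
          Prod.snd_inv, mul_inv_cancel, sl_one_mulVec] }
  obtain ⟨l, hl, hi, hne⟩ := h.symm.exists_other
  have h3 : ∀ g, (g, 1) ∈ Δ → g = 1 := fun g hg => by
    refine mem_bot.1 ((H.normalCore_normal.eq_bot_or_eq_top.resolve_right fun e => hne ?_) ▸
      fun b => ?_)
    · obtain ⟨x, rfl⟩ := hl
      exact (conj_eq_of_mem (H.normalCore_le (e.ge (mem_top x)))).symm
    · obtain ⟨x, hx, e⟩ := c.surj _ ((Cj.refl H).conj b⁻¹)
      have := (h.mem_iff_eq (c.cj x hx)).1 (by simpa using hg x hx)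
      rwa [e, mem_map_conj, inv_inv] at this
  have h4 : ∀ A, (1, A) ∈ Δ → A ∈ center _ := fun A hA => mem_center_of_eigen A fun x hx =>
    (c.eq_iff _ _ hx (sl_mulVec_ne_zero A hx)).1 ((map_conj_one _).symm.trans (hA x hx))
  have h1 : ∀ g, ∃ A, (g, A) ∈ Δ := by
    have k : ∀ z : G, z * z = 1 → z ∈ Δ.map (MonoidHom.fst _ _) := fun z hz => by
      by_cases hz1 : z = 1
      · exact hz1 ▸ one_mem _
      obtain ⟨p, m, hp, hm, z1, z2⟩ := h.exists_flag hz hz1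
      obtain ⟨e, he, rfl⟩ := c.surj p hp
      obtain ⟨φ, hφ, h5⟩ := c.line m hm
      have h6 := (h5 e he).1 (inc_of_mem z1 z2 hz1)
      obtain ⟨a, ha⟩ := h.elat c he hφ hm h5 h6 z1 z2
      refine ⟨(z, ⟨1 + a • vecMulVec e φ, ?_⟩), fun x hx => ?_, rfl⟩
      · simp only [dotProduct, Fin.sum_univ_three] at h6
        simp [det_fin_three, vecMulVec_apply]
        linear_combination a * h6
      · simp only [ha x hx, add_mulVec, one_mulVec, smul_mulVec, vecMulVec_mulVec]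
        congr 2; ext; simp; ring
    have : normalClosure {z : G | z * z = 1} = ⊤ :=
      normalClosure_normal.eq_bot_or_eq_top.resolve_left fun e => by
        obtain ⟨u, hu, hu1⟩ := exists_ne_one h.inc
        exact hu1 (mem_bot.1 (e ▸ subset_normalClosure (vv_sq hu.1)))
    intro g
    obtain ⟨p, hp, rfl⟩ := (closure_le _).2 (fun z hz => k z (by
      obtain ⟨y, hy, e⟩ := Group.mem_conjugatesOfSet_iff.1 hz
      obtain ⟨b, rfl⟩ := isConj_iff.1 e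
      rw [conj_mul, show y * y = 1 from hy]; simp)) (this.ge (mem_top g))
    exact ⟨p.2, hp⟩
  have h2 : ∀ A, ∃ g, (g, A) ∈ Δ := by
    refine sl_transvection_induction _ (fun i j hij a => ?_)
      fun A B ⟨g, hg⟩ ⟨k, hk⟩ => ⟨g * k, mul_mem hg hk⟩
    obtain ⟨k, hik, hjk⟩ : ∃ k, i ≠ k ∧ j ≠ k := by revert i j; decide
    have ne : ∀ i : Fin 3, (Pi.single i 1 : Fin 3 → F) ≠ 0 := fun i => by simp
    have ne' : (Pi.single j 1 + a • Pi.single i 1 : Fin 3 → F) ≠ 0 := fun e => by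
      simpa [hij] using congrFun e j
    obtain ⟨m, hm, m1, m2⟩ := h.join (c.cj _ (ne i)) (c.cj _ (ne k))
    obtain ⟨l, hl, l1, l2⟩ := h.join (c.cj _ (ne i)) (c.cj _ (ne j))
    obtain ⟨φ, hφ, h5⟩ := c.line m hm
    obtain ⟨ψ, -, h6⟩ := c.line l hl
    have h7 : ∀ x, φ ⬝ᵥ x = φ j * x j := fun x => by
      have e1 := (h5 _ (ne i)).1 m1
      have e2 := (h5 _ (ne k)).1 m2
      simp only [dotProduct_single, mul_one] at e1 e2
      fin_cases i <;> fin_cases j <;> fin_cases k <;>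
        simp_all [dotProduct, Fin.sum_univ_three]
    have h8 : φ j ≠ 0 := fun e => hφ (dotProduct_eq_zero _ fun x => by simp [h7, e])
    have k1 : ∀ x, x ≠ 0 → x j ≠ 0 → P (Pi.single i 1) ≠ P x := fun x hx h9 e => by
      obtain ⟨b, rfl⟩ := (c.eq_iff _ _ (ne i) hx).1 e
      simp [hij] at h9
    obtain ⟨z, hz, e⟩ := (h.flag (c.cj _ (ne i)) hl l1).trans_on (hl.symm.trans hm) m1
      (fun e => h8 (by simpa using (h5 _ (ne j)).1 (e ▸ l2)))
      ((c.cj _ (ne i)).symm.trans (c.cj _ (ne j))) ((c.cj _ (ne i)).symm.trans (c.cj _ ne')) l2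
      ((h6 _ ne').2 (by rw [dotProduct_add, dotProduct_smul, (h6 _ (ne i)).1 l1,
        (h6 _ (ne j)).1 l2]; simp)) (k1 _ (ne j) (by simp)) (k1 _ ne' (by simp [hij]))
    obtain ⟨b, hb⟩ := h.elat c (ne i) hφ hm h5 ((h5 _ (ne i)).1 m1) hz.1 hz.2
    obtain ⟨d, hd⟩ := (c.eq_iff _ _ ne' (fun e => by simpa [hij] using congrFun e j)).1
      (e.symm.trans (hb _ (ne j)))
    have e1 := congrFun hd i
    have e2 := congrFun hd j
    simp [hij, hij.symm] at e1 e2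
    refine ⟨z, fun x hx => ?_⟩
    simp only [hb x hx, SpecialLinearGroup.transvection_coe, add_mulVec, one_mulVec, h7,
      ← mul_assoc, e1, ← e2, one_mul]
    congr 2; ext n; simp [single_mulVec, Pi.single_apply, Function.update_apply]
  refine ⟨F, inferInstance, inferInstance, ?_, Suz.nonempty_equiv_of_graph
    ((inferInstance : (center G).Normal).eq_bot_or_eq_top.resolve_right fun e => hne ?_)
    Δ h1 h2 h3 h4⟩
  swap
  · obtain ⟨x, rfl⟩ := hl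
    exact (conj_eq_of_mem_centralizer (center_le_centralizer _ (e.ge (mem_top x)))).symm
  have h5 : ∀ a : Fˣ, a ^ 3 = 1 := fun a => by
    obtain ⟨T, D, e1, e2, e3, e4, e5⟩ := exists_torus two a
    obtain ⟨u, hu⟩ := h2 T
    obtain ⟨g, hg⟩ := h2 D
    have k1 : u * u = 1 := h3 _ (by simpa [e2] using mul_mem hu hu)
    have k2 : u ≠ 1 := by
      rintro rfl
      exact e4 (h4 _ hu)
    have k3 : g * u = u * g := mul_inv_eq_one.1 (h3 _ (by
      have := mul_mem (mul_mem hg hu) (inv_mem (mul_mem hu hg))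
      rwa [Prod.mk_mul_mk, Prod.mk_mul_mk, Prod.inv_mk, Prod.mk_mul_mk, e1, mul_inv_cancel (T * D)]
        at this))
    have k4 : Odd (Nat.card Fˣ) := by
      obtain ⟨n, hn⟩ := IsPGroup.iff_card.1 h.nH.u_p
      have := h.two
      rw [Nat.card_units, Nat.card_eq_fintype_card, hF, hn]
      exact Nat.Even.sub_odd Nat.one_le_two_pow (Nat.even_pow.2 ⟨even_two, by
        rintro rfl; omega⟩) odd_one
    obtain rfl := eq_one_of_p (h.cit u k1 k2) (mem_C1.2 k3) (k4.of_dvd_nat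
      (orderOf_dvd_of_pow_eq_one (h3 _ (by
        simpa only [Prod.pow_mk, e3] using pow_mem hg (Nat.card Fˣ)))))
    exact e5 (h4 _ hg)
  have h6 : Nat.card Fˣ ∣ 3 := by
    rw [← IsCyclic.exponent_eq_card]; exact Monoid.exponent_dvd_of_forall_pow_eq_one h5
  have h7 := h.two
  rw [Nat.card_units, Nat.card_eq_fintype_card] at h6
  rcases (Nat.dvd_prime Nat.prime_three).1 h6 with h8 | h8 <;> omega

end Cfsg.Lib.CIT
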