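import Cfsg.Agent.Lib.CIT.Basic

/-!
# CIT groups: `Ω₁Z(O₂(H))` as a natural `SL₂`-module
-/

set_option autoImplicit false
set_option linter.unusedSectionVars false

namespace Cfsg.Lib.CIT
open Subgroup Cfsg.Lib Cfsg.Lib.FT
open scoped commutatorElement

variable {G : Type*} [Group G] [Finite G]

/-- `V = Ω₁Z(O₂(H))` is a natural module with the line `U` -/
structure Nt (H U : Subgroup G) : Prop where
  cit : IsCIT G
  le : U ≤ vv H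
  ne : U ≠ ⊥
  card : Nat.card (vv H) = Nat.card U ^ 2
  tr : ∀ v ∈ vv H, v ∉ U → ∀ u ∈ U, ∃ a ∈ tt H U, ⁅v, a⁆ = u

theorem c1_eq_of_mul {H : Subgroup G} {a d : G} (hd : d ∈ o2 H) :
    vv H ⊓ C1[d * a] = vv H ⊓ C1[a] := by
  ext v
  simp only [mem_inf, mem_C1]
  refine and_congr_right fun hv => ?_
  rw [← mul_assoc, vv_comm hv hd, mul_assoc, mul_assoc, mul_right_inj]

theorem comm_mem_c1 {H : Subgroup G} {c v : G} (hc : c ∈ H) (h2 : c * c ∈ o2 H) (hv : v ∈ vv H) :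
    ⁅v, c⁆ ∈ vv H ⊓ C1[c] := by
  refine ⟨comm_mem_left hv (le_n_vv H hc), mem_C1.2 ?_⟩
  have h1 := vv_comm hv h2
  have h3 := vv_comm' H _ hv _ (pg_conj_mem_of_mem_normalizer (le_n_vv H hc) hv)
  rw [commutatorElement_def, vv_inv hv]
  calc v * c * v * c⁻¹ * c = (v * (c * v * c⁻¹)) * c := by group
    _ = c * (v * (c⁻¹ * (v * (c * c)) * c⁻¹ * c⁻¹) * c) := by rw [h3]; group
    _ = _ := by rw [h1]; group

namespace Nt
variable {H U : Subgroup G} (h : Nt H U)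
include h

theorem conj (g : G) : Nt (g •ᶜ H) (g •ᶜ U) where
  cit := h.cit
  le := by rw [← conj_vv]; exact conj_le_conj_iff.2 h.le
  ne := by rw [Ne, conj_eq_bot_iff]; exact h.ne
  card := by rw [← conj_vv, card_conj, card_conj, h.card]
  tr := fun v hv hvU u hu => by
    rw [← conj_vv, mem_map_conj] at hv
    rw [mem_map_conj] at hu hvU
    obtain ⟨a, ha, e⟩ := h.tr _ hv hvU _ hu
    refine ⟨g * a * g⁻¹, by rw [← conj_tt]; exact conj_mem_conj ha g, ?_⟩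
    calc ⁅v, g * a * g⁻¹⁆ = g * ⁅g⁻¹ * v * g, a⁆ * g⁻¹ := by
          simp only [commutatorElement_def]; group
      _ = u := by rw [e]; group

theorem conj' {g : G} (hg : g ∈ H) : Nt H (g •ᶜ U) := by
  simpa only [conj_eq_of_mem hg] using h.conj g

theorem vne : vv H ≠ ⊥ := fun e => h.ne (le_bot_iff.1 (e ▸ h.le))

theorem two_le : 2 ≤ Nat.card U := (one_lt_card_iff_ne_bot _).2 h.ne

theorem lt : U < vv H := lt_of_le_of_ne h.le fun e => by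
  have h1 := h.card
  have h2 := h.two_le
  rw [← e] at h1
  nlinarith

theorem exists_v : ∃ v ∈ vv H, v ∉ U := SetLike.exists_of_lt h.lt

theorem u_p : IsPGroup 2 U := (vv_p H).to_le h.le

theorem u_sq {u : G} (hu : u ∈ U) : u * u = 1 := vv_sq (h.le hu)

theorem o2_le_tt : o2 H ≤ tt H U := fun _ hd => mem_tt.2 ⟨o2_le H hd,
  centralizer_mono h.le (o2_le_c H hd), fun _ hv => by
    rw [comm_iff.2 (vv_comm hv hd)]; exact one_mem _⟩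

theorem vv_le_tt : vv H ≤ tt H U := (vv_le H).trans h.o2_le_tt

theorem tt_p : IsPGroup 2 (tt H U) := h.cit.p_of_le_c h.u_p h.ne (tt_le_c H U)

theorem mem_o2 {x v : G} (hx : x ∈ H) (hU : x ∈ C[U]) (hv : v ∈ vv H) (hvU : v ∉ U)
    (e : v * x = x * v) : x ∈ o2 H := by
  by_contra hh
  have h1 := h.cit.card_sq_le hx hh
  have h2 : U < vv H ⊓ C1[x] := lt_of_le_of_ne (le_inf h.le (le_C1_iff.2 hU))
    fun e' => hvU (e' ▸ mem_inf.2 ⟨hv, mem_C1.2 e⟩)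
  have h3 := pg_card_lt_of_lt h2
  rw [h.card] at h1
  nlinarith

theorem inf_c1 {a : G} (ha : a ∈ tt H U) (hD : a ∉ o2 H) : vv H ⊓ C1[a] = U :=
  le_antisymm (fun _ hv => by_contra fun hvU =>
    hD (h.mem_o2 (tt_le H U ha) (tt_le_c H U ha) hv.1 hvU (mem_C1.1 hv.2)))
    (le_inf h.le (le_C1_iff.2 (tt_le_c H U ha)))

theorem exists_mul {x v : G} (hx : x ∈ H) (hU : x ∈ C[U]) (hv : v ∈ vv H) (hvU : v ∉ U) {a : G}
    (ha : a ∈ tt H U) (e : ⁅v, a⁆ = ⁅v, x⁆) : a⁻¹ * x ∈ o2 H := by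
  refine h.mem_o2 (mul_mem (inv_mem (tt_le H U ha)) hx) (mul_mem (inv_mem (tt_le_c H U ha)) hU)
    hv hvU ?_
  simp only [commutatorElement_def, mul_assoc, mul_right_inj] at e
  have := congrArg (fun y => v * (a⁻¹ * (y * x)) * v) e
  simp only [mul_assoc, inv_mul_cancel, mul_one, inv_mul_cancel_left, mul_inv_cancel_left] at this
  simp only [mul_assoc, this]

theorem mem_tt' {x v : G} (hx : x ∈ H) (hU : x ∈ C[U]) (hv : v ∈ vv H) (hvU : v ∉ U)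
    (e : ⁅v, x⁆ ∈ U) : x ∈ tt H U := by
  obtain ⟨a, ha, e⟩ := h.tr v hv hvU _ e
  exact (mul_mem_cancel_left (inv_mem ha)).1 (h.o2_le_tt (h.exists_mul hx hU hv hvU ha e))

theorem exists_a : ∃ a ∈ tt H U, a ∉ o2 H := by
  obtain ⟨v, hv, hvU⟩ := h.exists_v
  obtain ⟨u, hu, hu1⟩ := exists_ne_one h.ne
  obtain ⟨a, ha, e⟩ := h.tr v hv hvU u hu
  exact ⟨a, ha, fun hD => hu1 (by rw [← e, comm_iff.2 (vv_comm hv hD)])⟩

theorem o2_lt : o2 H < tt H U := by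
  obtain ⟨a, ha, h1⟩ := h.exists_a
  exact lt_of_le_of_ne h.o2_le_tt fun e => h1 (e ▸ ha)

theorem mem_tt_of_comm {c : G} (hc : c ∈ H) (hD : c ∉ o2 H) (h2 : c * c ∈ o2 H)
    (h3 : ∀ a ∈ tt H U, ⁅c, a⁆ ∈ o2 H) : c ∈ tt H U := by
  have h4 : vv H ⊓ C1[c] ≤ U := fun v hv => by_contra fun hvU => by
    refine hD (h.mem_o2 hc (mem_centralizer_iff.2 fun u hu => ?_) hv.1 hvU (mem_C1.1 hv.2))
    obtain ⟨a, ha, rfl⟩ := h.tr v hv.1 hvU u hu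
    have h5 := vv_comm (pg_conj_mem_of_mem_normalizer (le_n_vv H (tt_le H U ha)) (inv_mem hv.1))
      (h3 a ha)
    have h6 := mem_C1.1 hv.2
    have h7 := mem_C1.1 (inv_mem (mem_inf.1 hv).2)
    have h8 : c * (a * v⁻¹ * a⁻¹) = a * v⁻¹ * a⁻¹ * c :=
      calc c * (a * v⁻¹ * a⁻¹) = ⁅c, a⁆ * (a * (c * v⁻¹) * a⁻¹) := by
            simp only [commutatorElement_def]; group
        _ = ⁅c, a⁆ * (a * v⁻¹ * a⁻¹) * (a * c * a⁻¹) := by rw [← h7]; group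
        _ = _ := by rw [← h5]; simp only [commutatorElement_def]; group
    calc ⁅v, a⁆ * c = v * (a * v⁻¹ * a⁻¹ * c) := by simp only [commutatorElement_def]; group
      _ = (v * c) * (a * v⁻¹ * a⁻¹) := by rw [← h8]; group
      _ = _ := by rw [h6]; simp only [commutatorElement_def]; group
  have h5 := card_le_mul (vv_comm' H) (le_n_vv H hc) fun v hv => comm_mem_c1 hc h2 hv
  have h6 : vv H ⊓ C1[c] = U := eq_of_le_of_card_ge h4 (by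
    rw [h.card, ← sq] at h5
    exact (Nat.pow_le_pow_iff_left two_ne_zero).1 h5)
  exact mem_tt.2 ⟨hc, le_C1_iff.1 (h6.ge.trans inf_le_right),
    fun v hv => h4 (comm_mem_c1 hc h2 hv)⟩

theorem le_n {P : Subgroup G} (hP : IsPGroup 2 P) (h1 : tt H U ≤ P) (h2 : P ≤ H) : P ≤ N[U] := by
  obtain ⟨c, hc, hD, h3, h4⟩ := pg_exists_fixed_mod hP hP le_normalizer (h.o2_lt.trans_le h1)
    (h2.trans (le_n_o2 H)) (h2.trans (le_n_o2 H))
  have h5 := h.inf_c1 (h.mem_tt_of_comm (h2 hc) hD (by rwa [← sq]) fun a ha => h4 a (h1 ha)) hD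
  intro t ht
  rw [← conj_eq_iff_mem_normalizer]
  conv_lhs => rw [← h5, conj_inf, conj_centralizer_singleton,
    conj_eq_iff_mem_normalizer.2 (le_n_vv H (h2 ht))]
  rw [← h5, ← c1_eq_of_mul (h4 t ht)]
  congr 3
  simp only [commutatorElement_def]; group

theorem n_tt {g : G} (hg : g ∈ H) (hU : g ∈ N[U]) : g ∈ N[tt H U] := by
  rw [← conj_eq_iff_mem_normalizer] at hU ⊢
  rw [conj_tt, hU, conj_eq_of_mem hg]

theorem exists_conj : ∃ g ∈ H, U ⊓ g •ᶜ U = ⊥ := by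
  obtain ⟨a, ha, hD⟩ := h.exists_a
  have := h.cit.exists_inf_eq_bot (tt_le H U ha) hD
  rwa [h.inf_c1 ha hD] at this

theorem sup_eq {U' : Subgroup G} (h' : Nt H U') (e : U ⊓ U' = ⊥) : U ⊔ U' = vv H := by
  refine eq_of_le_of_card_ge (sup_le h.le h'.le) ?_
  have h1 := h.card
  have h2 : Nat.card U' = Nat.card U :=
    (Nat.pow_left_injective two_ne_zero) (h'.card.symm.trans h1)
  rw [card_mul_le_of_inf (vv_comm' H) h.le h'.le e, h1, h2, sq]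

theorem exists_dec {U' : Subgroup G} (h' : Nt H U') (e : U ⊓ U' = ⊥) {v : G} (hv : v ∈ vv H) :
    ∃ u ∈ U, ∃ u' ∈ U', u * u' = v := by
  rw [← h.sup_eq h' e] at hv
  exact (pg_mem_sup_of_le_normalizer_left fun a ha => centralizer_le_normalizer _
    (mem_centralizer_iff.2 fun b hb => vv_comm' H _ (h.le hb) _ (h'.le ha))).1 hv

theorem exists_conj_eq {v u : G} (hv : v ∈ vv H) (hvU : v ∉ U) (hu : u ∈ U) :
    ∃ a ∈ tt H U, a * v * a⁻¹ = u * v := by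
  obtain ⟨a, ha, e⟩ := h.tr v hv hvU u hu
  refine ⟨a, ha, ?_⟩
  rw [← vv_comm' H _ hv _ (h.le hu), ← e, commutatorElement_def, vv_inv hv]
  simp only [← mul_assoc, vv_sq hv, one_mul]

theorem exists_line {v : G} (hv : v ∈ vv H) (hvU : v ∉ U) :
    ∃ g ∈ H, U ⊓ g •ᶜ U = ⊥ ∧ v ∈ g •ᶜ U := by
  obtain ⟨g, hg, e⟩ := h.exists_conj
  obtain ⟨u, hu, u', hu', rfl⟩ := h.exists_dec (h.conj' hg) e hv
  obtain ⟨a, ha, e'⟩ := h.exists_conj_eq ((h.conj' hg).le hu')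
    (fun hh => hvU (mul_mem hu hh)) hu
  refine ⟨a * g, mul_mem (tt_le H U ha) hg, ?_, by rw [← conj_conj, ← e']; exact conj_mem_conj hu' a⟩
  rw [← conj_eq_bot_iff (g := a), conj_inf, conj_eq_of_mem_centralizer (tt_le_c H U ha),
    conj_conj] at e
  exact e

theorem eq_tt {P : Subgroup G} (hP : IsPGroup 2 P) (h1 : tt H U ≤ P) (h2 : P ≤ H) : P = tt H U := by
  obtain ⟨v, hv, hvU, -, h3⟩ := pg_exists_fixed_mod (vv_p H) hP (h2.trans (le_n_vv H)) h.lt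
    (fun a ha => centralizer_le_normalizer _
      (mem_centralizer_iff.2 fun b hb => vv_comm' H _ (h.le hb) _ ha)) (h.le_n hP h1 h2)
  have hDv : o2 H ≤ C1[v] := (o2_le_c H).trans (centralizer_le_singleton hv)
  suffices hh : P ⊓ C1[v] ≤ o2 H by
    refine le_antisymm (fun t ht => ?_) h1
    obtain ⟨a, ha, e⟩ := h.tr v hv hvU _ (h3 t ht)
    refine (mul_mem_cancel_left (inv_mem ha)).1 (h.o2_le_tt (hh (mem_inf.2
      ⟨mul_mem (inv_mem (h1 ha)) ht, mem_C1.2 ?_⟩)))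
    simp only [commutatorElement_def, mul_assoc, mul_right_inj] at e
    have := congrArg (fun y => v * (a⁻¹ * (y * t)) * v) e
    simp only [mul_assoc, inv_mul_cancel, mul_one, inv_mul_cancel_left, mul_inv_cancel_left] at this
    simp only [mul_assoc, this]
  by_contra hh
  have h4 : o2 H < P ⊓ C1[v] := lt_of_le_of_ne (le_inf (h.o2_le_tt.trans h1) hDv)
    fun e => hh e.ge
  have hPv : IsPGroup 2 ↥(P ⊓ C1[v]) := hP.to_le inf_le_left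
  have h5 : P ⊓ C1[v] ≤ N[o2 H] := inf_le_left.trans (h2.trans (le_n_o2 H))
  obtain ⟨c, hc, hcD, -, -⟩ := pg_exists_fixed_mod hPv hPv le_normalizer h4 h5 h5
  obtain ⟨g, hg, e, hvg⟩ := h.exists_line hv hvU
  have h' := h.conj' hg
  have hcp : IsPGroup 2 (zpowers c) := hPv.to_le (zpowers_le.2 hc)
  have key : ∀ {U' : Subgroup G}, Nt H U' → c ∈ N[U'] →
      ∃ a ∈ H, vv H ⊓ C1[a] = U' ∧ ⁅c, a⁆ ∈ o2 H := fun {U'} h' hn => by
    obtain ⟨a, ha, haD, -, h6⟩ := pg_exists_fixed_mod h'.tt_p hcp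
      (zpowers_le.2 (h'.n_tt (h2 hc.1) hn)) h'.o2_lt ((tt_le H U').trans (le_n_o2 H))
      (zpowers_le.2 (h5 hc))
    exact ⟨a, tt_le H U' ha, h'.inf_c1 ha haD, pg_commutatorElement_mem_symm (h6 c (mem_zpowers c))⟩
  obtain ⟨a, ha, e1, e2⟩ := key h (h.le_n hP h1 h2 hc.1)
  obtain ⟨b, hb, e3, e4⟩ := key h' (h'.le_n (P := H ⊓ C1[v])
    (h.cit.p_of_le (vv_sq hv) (fun e => hvU (e ▸ one_mem U)) inf_le_right)
    (le_inf (tt_le _ _) ((tt_le_c _ _).trans (centralizer_le_singleton hvg))) inf_le_left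
    ⟨h2 hc.1, hc.2⟩)
  refine h.cit.inf_ne_bot h.vne hPv h4.le hc hcD (le_n_o2 H) ha hb e2 e4 ?_
  rw [e1, e3, e]

theorem isSylowIn : IsSylowIn 2 (tt H U) H :=
  ⟨tt_le H U, h.tt_p, fun _ hR h1 h2 => h.eq_tt hR h2 h1⟩

theorem inf_c1_eq {u : G} (hu : u ∈ U) (h1 : u ≠ 1) : H ⊓ C1[u] = tt H U :=
  h.eq_tt (h.cit.p_of_le (h.u_sq hu) h1 inf_le_right)
    (le_inf (tt_le _ _) ((tt_le_c _ _).trans (centralizer_le_singleton hu))) inf_le_left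

theorem oz_tt : oz (tt H U) = U := by
  obtain ⟨a, ha, hD⟩ := h.exists_a
  refine le_antisymm (fun x hx => ?_) fun u hu => ⟨h.vv_le_tt (h.le hu),
    mem_centralizer_iff.2 fun a ha => (mem_centralizer_iff.1 (tt_le_c H U ha) u hu).symm, h.u_sq hu⟩
  rw [← h.inf_c1 ha hD]
  exact ⟨h.cit.oz_le_vv h.vne h.o2_le_tt (tt_le H U) hx,
    mem_C1.2 (mem_centralizer_iff.1 hx.2.1 a ha).symm⟩

theorem eq_of_inf {U' : Subgroup G} (h' : Nt H U') (e : U ⊓ U' ≠ ⊥) : U = U' := by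
  obtain ⟨u, hu, h1⟩ := exists_ne_one e
  rw [← h.oz_tt, ← h'.oz_tt, ← h.inf_c1_eq hu.1 h1, ← h'.inf_c1_eq hu.2 h1]

theorem of_sylow {P : Subgroup G} (hP : IsSylowIn 2 P H) : Nt H (oz P) ∧ tt H (oz P) = P := by
  obtain ⟨k, hk, rfl⟩ := h.isSylowIn.exists_conj hP
  have : oz (k •ᶜ tt H U) = k •ᶜ U := by rw [← conj_oz, h.oz_tt]
  rw [this]
  exact ⟨h.conj' hk, by rw [conj_tt, conj_eq_of_mem hk]⟩

theorem trans {v w : G} (hv : v ∈ vv H) (hv1 : v ≠ 1) (hw : w ∈ vv H) (hw1 : w ≠ 1) :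
    ∃ g ∈ H, g * v * g⁻¹ = w := by
  obtain ⟨g, hg, e⟩ := h.exists_conj
  have h' := h.conj' hg
  have hne : ∀ {x}, x ∈ U → x ∈ g •ᶜ U → x = 1 := fun h1 h2 => mem_bot.1 (e ▸ mem_inf.2 ⟨h1, h2⟩)
  have k1 : ∀ u ∈ U, u ≠ 1 → ∀ u' ∈ g •ᶜ U, u' ≠ 1 → ∃ k ∈ H, k * u * k⁻¹ = u' := by
    intro u hu h1 u' hu' h2
    obtain ⟨a, ha, e1⟩ := h.exists_conj_eq (h'.le hu') (fun hh => h2 (hne hh hu')) hu
    obtain ⟨b, hb, e2⟩ := h'.exists_conj_eq (h.le hu) (fun hh => h1 (hne hu hh)) hu'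
    refine ⟨a⁻¹ * b, mul_mem (inv_mem (tt_le _ _ ha)) (tt_le _ _ hb), ?_⟩
    rw [vv_comm' H _ (h'.le hu') _ (h.le hu), ← e1] at e2
    rw [show a⁻¹ * b * u * (a⁻¹ * b)⁻¹ = a⁻¹ * (b * u * b⁻¹) * a by group, e2]; group
  obtain ⟨u₀, hu₀, h0⟩ := exists_ne_one h.ne
  have k2 : ∀ v ∈ vv H, v ≠ 1 → ∃ k ∈ H, k * u₀ * k⁻¹ = v := by
    intro v hv hv1
    obtain ⟨u, hu, u', hu', rfl⟩ := h.exists_dec h' e hv
    by_cases h1 : u' = 1
    · subst h1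
      obtain ⟨x, hx, hx1⟩ := exists_ne_one h'.ne
      obtain ⟨k, hk, e1⟩ := k1 u₀ hu₀ h0 x hx hx1
      obtain ⟨l, hl, e2⟩ := k1 u hu (by simpa using hv1) x hx hx1
      refine ⟨l⁻¹ * k, mul_mem (inv_mem hl) hk, ?_⟩
      rw [show l⁻¹ * k * u₀ * (l⁻¹ * k)⁻¹ = l⁻¹ * (k * u₀ * k⁻¹) * l by group, e1, ← e2]; group
    · obtain ⟨k, hk, e1⟩ := k1 u₀ hu₀ h0 u' hu' h1
      obtain ⟨a, ha, e2⟩ := h.exists_conj_eq (h'.le hu') (fun hh => h1 (hne hh hu')) hu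
      refine ⟨a * k, mul_mem (tt_le _ _ ha) hk, ?_⟩
      rw [← e2, ← e1]; group
  obtain ⟨k, hk, rfl⟩ := k2 v hv hv1
  obtain ⟨l, hl, rfl⟩ := k2 w hw hw1
  exact ⟨l * k⁻¹, mul_mem hl (inv_mem hk), by group⟩

/-- two different Sylow subgroups do not both fix a non-trivial coset of a normal 2-subgroup -/
theorem false_of_comm {U' : Subgroup G} (h' : Nt H U') (hU : U ⊓ U' = ⊥) {D E : Subgroup G}
    (hE : IsPGroup 2 E) (hD : D ≤ E) {e : G} (he : e ∈ E) (h1 : e ∉ D) (hn : H ≤ N[D]) {a b : G}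
    (ha : a ∈ tt H U) (haD : a ∉ o2 H) (hb : b ∈ tt H U') (hbD : b ∉ o2 H)
    (ha' : ⁅e, a⁆ ∈ D) (hb' : ⁅e, b⁆ ∈ D) : False := by
  refine h.cit.inf_ne_bot h.vne hE hD he h1 hn (tt_le _ _ ha) (tt_le _ _ hb) ha' hb' ?_
  rw [h.inf_c1 ha haD, h'.inf_c1 hb hbD, hU]

end Nt

theorem crit_aux (hC : IsCIT G) {H K : Subgroup G} (hV : vv H ≠ ⊥) (h1 : vv H ≤ K) (h2 : vv K ≤ H)
    {a : G} (ha : a ∈ vv K) (hD : a ∉ o2 H) : vv H ⊓ C1[a] = vv H ⊓ vv K ∧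
      Nat.card (vv H) = Nat.card ↥(vv H ⊓ vv K) ^ 2 := by
  have h3 : vv H ⊓ vv K ≤ vv H ⊓ C1[a] :=
    inf_le_inf_left _ fun x hx => mem_C1.2 (vv_comm' K _ hx _ ha)
  have h4 := card_le_mul (W := vv H ⊓ vv K) (vv_comm' H) (le_n_vv H (h2 ha)) fun v hv =>
    ⟨comm_mem_left hv (le_n_vv H (h2 ha)), comm_mem_right ha (le_n_vv K (h1 hv))⟩
  have h5 := hC.card_sq_le (h2 ha) hD
  have h6 := card_le_of_le h3
  have h7 : 0 < Nat.card ↥(vv H ⊓ C1[a]) := Nat.card_pos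
  have h8 : vv H ⊓ vv K = vv H ⊓ C1[a] := eq_of_le_of_card_ge h3 (by nlinarith)
  rw [← h8] at h4 h5 ⊢
  exact ⟨rfl, le_antisymm (by rwa [sq]) h5⟩

theorem not_le_symm (hC : IsCIT G) {H K : Subgroup G} (hV : vv H ≠ ⊥) (h2 : vv K ≤ H)
    (h3 : ¬ vv K ≤ o2 H) : ¬ vv H ≤ o2 K := fun hh => h3 fun a ha =>
  hC.mem_o2 hV (h2 ha) (mem_centralizer_iff.2 fun v hv => (vv_comm ha (hh hv)).symm)

/-- critical pairs -/
theorem crit (hC : IsCIT G) {H K : Subgroup G} (hV : vv H ≠ ⊥) (h1 : vv H ≤ K) (h2 : vv K ≤ H)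
    (h3 : ¬ vv K ≤ o2 H) : Nt H (vv H ⊓ vv K) ∧ vv K ⊓ o2 H = vv H ⊓ vv K ∧
      tt H (vv H ⊓ vv K) = vv K ⊔ o2 H := by
  have hK : vv K ≠ ⊥ := fun e => h3 (e ▸ bot_le)
  obtain ⟨a, ha, haD⟩ := SetLike.not_le_iff_exists.1 h3
  obtain ⟨b, hb, hbD⟩ := SetLike.not_le_iff_exists.1 (not_le_symm hC hV h2 h3)
  obtain ⟨-, c1⟩ := crit_aux hC hV h1 h2 ha haD
  obtain ⟨c2, -⟩ := crit_aux hC hK h2 h1 hb hbD
  have h4 : vv H ⊓ o2 K ≤ vv H ⊓ vv K := fun v hv => by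
    rw [← (crit_aux hC hV h1 h2 ha haD).1]
    exact ⟨hv.1, mem_C1.2 (vv_comm ha hv.2).symm⟩
  have h5 : vv K ≤ tt H (vv H ⊓ vv K) := fun x hx => mem_tt.2 ⟨h2 hx,
    mem_centralizer_iff.2 fun u hu => vv_comm' K _ hu.2 _ hx, fun v hv =>
      ⟨comm_mem_left hv (le_n_vv H (h2 hx)), comm_mem_right hx (le_n_vv K (h1 hv))⟩⟩
  have h6 : ∀ v ∈ vv H, v ∉ vv H ⊓ vv K → ∀ u ∈ vv H ⊓ vv K, ∃ a ∈ vv K, ⁅v, a⁆ = u := by
    intro v hv hvU u hu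
    obtain ⟨c3, c4⟩ := crit_aux hC hK h2 h1 hv fun hh => hvU (h4 ⟨hv, hh⟩)
    obtain ⟨W, hW, e⟩ := exists_comm_im (vv_comm' K) (le_n_vv K (h1 hv))
    have h7 : W = vv K ⊓ vv H := eq_of_le_of_card_ge (fun w hw => by
      obtain ⟨x, hx, rfl⟩ := (hW w).1 hw
      exact ⟨comm_mem_left hx (le_n_vv K (h1 hv)), comm_mem_right hv (le_n_vv H (h2 hx))⟩) (by
      rw [c3, c4, sq] at e
      exact (Nat.eq_of_mul_eq_mul_left Nat.card_pos e).le)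
    obtain ⟨x, hx, e'⟩ := (hW u).1 (h7 ▸ mem_inf.2 ⟨hu.2, hu.1⟩)
    exact ⟨x, hx, by rw [← commutatorElement_inv, e', vv_inv hu.1]⟩
  have hN : Nt H (vv H ⊓ vv K) := ⟨hC, inf_le_left, fun e => hV (by
    rw [e, card_bot, one_pow] at c1
    exact card_eq_one.1 c1), c1, fun v hv hvU u hu => (h6 v hv hvU u hu).imp fun _ h => ⟨h5 h.1, h.2⟩⟩
  refine ⟨hN, le_antisymm (fun v hv => ?_) (le_inf inf_le_right (inf_le_left.trans (vv_le H))),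
    le_antisymm (fun x hx => ?_) (sup_le h5 hN.o2_le_tt)⟩
  · rw [inf_comm, ← c2]
    exact ⟨hv.1, mem_C1.2 (vv_comm hb hv.2).symm⟩
  · obtain ⟨v, hv, hvU⟩ := hN.exists_v
    obtain ⟨a, ha, e⟩ := h6 v hv hvU _ ((mem_tt.1 hx).2.2 v hv)
    exact (mul_mem_cancel_left (inv_mem (mem_sup_left ha))).1 (mem_sup_right
      (hN.exists_mul (tt_le _ _ hx) (tt_le_c _ _ hx) hv hvU (h5 ha) e))

end Cfsg.Lib.CIT
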