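import Cfsg.Agent.Lib.CIT.Small
import Cfsg.Agent.Lib.Misc.Invol

/-!
# CIT groups: the projective plane
-/

set_option autoImplicit false
set_option linter.unusedSectionVars false

namespace Cfsg.Lib.CIT
open Subgroup Cfsg.Lib Cfsg.Lib.FT
open scoped commutatorElement

variable {G : Type*} [Group G] [Finite G]

/-- conjugate subgroups -/
def Cj (H p : Subgroup G) : Prop := ∃ g : G, p = g •ᶜ H

/-- incidence -/
def Inc (p l : Subgroup G) : Prop := vv p ⊓ vv l ≠ ⊥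

theorem Cj.refl (H : Subgroup G) : Cj H H := ⟨1, (map_conj_one H).symm⟩

theorem Cj.conj {H p : Subgroup G} (h : Cj H p) (g : G) : Cj H (g •ᶜ p) := by
  obtain ⟨x, rfl⟩ := h
  exact ⟨g * x, conj_conj _ _ _⟩

theorem Cj.symm {H p : Subgroup G} (h : Cj H p) : Cj p H := by
  obtain ⟨x, rfl⟩ := h
  exact ⟨x⁻¹, (map_conj_inv_map_conj _ _).symm⟩

theorem Cj.trans {H p q : Subgroup G} (h : Cj H p) (h' : Cj p q) : Cj H q := by
  obtain ⟨x, rfl⟩ := h'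
  exact h.conj x

theorem Inc.symm {p l : Subgroup G} (h : Inc p l) : Inc l p := by rwa [Inc, inf_comm]

theorem inc_conj {p l : Subgroup G} (g : G) : Inc (g •ᶜ p) (g •ᶜ l) ↔ Inc p l := by
  rw [Inc, ← conj_vv, ← conj_vv, ← conj_inf, Ne, conj_eq_bot_iff, Inc]

theorem inc_of_mem {p l : Subgroup G} {z : G} (h1 : z ∈ vv p) (h2 : z ∈ vv l) (h : z ≠ 1) :
    Inc p l := fun e => h (mem_bot.1 (e ▸ mem_inf.2 ⟨h1, h2⟩))

theorem mem_vv_conj {p : Subgroup G} {z : G} (h : z ∈ vv p) (g : G) : g * z * g⁻¹ ∈ vv (g •ᶜ p) :=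
  conj_vv g p ▸ conj_mem_conj h g

theorem eq_one_of_p {X : Subgroup G} (h : IsPGroup 2 X) {y : G} (hy : y ∈ X)
    (ho : Odd (orderOf y)) : y = 1 := by
  obtain ⟨k, hk⟩ := h ⟨y, hy⟩
  exact orderOf_eq_one_iff.1 (Nat.Coprime.eq_one_of_dvd ((Nat.coprime_two_right.2 ho).pow_right k)
    (orderOf_dvd_of_pow_eq_one (congrArg Subtype.val hk)))

theorem odd_of_no_invol {X : Subgroup G} (h : ∀ z ∈ X, z * z = 1 → z = 1) {x : G} (hx : x ∈ X) :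
    Odd (orderOf x) := by
  by_contra ho
  obtain ⟨z, hz⟩ := exists_prime_orderOf_dvd_card' (G := zpowers x) 2
    (by rw [Nat.card_zpowers]; exact even_iff_two_dvd.1 (Nat.not_odd_iff_even.1 ho))
  rw [← Subgroup.orderOf_coe] at hz
  have := h z (zpowers_le.2 hx z.2) (by rw [← sq, ← hz, pow_orderOf_eq_one])
  simp [this] at hz

/-- a flag -/
structure Pl (H K : Subgroup G) : Prop extends Tri H K where
  syl : IsSylowIn 2 (vv H ⊔ vv K) ⊤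
  two : 2 < Nat.card ↥(vv H ⊓ vv K)

namespace Pl
variable {H K : Subgroup G} (h : Pl H K)
include h

theorem symm : Pl K H := ⟨h.toTri.symm, sup_comm (vv H) _ ▸ h.syl, inf_comm (vv H) _ ▸ h.two⟩

theorem conj (g : G) : Pl (g •ᶜ H) (g •ᶜ K) :=
  ⟨h.toTri.conj g, by
    rw [← conj_vv, ← conj_vv, ← conj_sup, ← conj_top g]; exact h.syl.map_conj g,
    by rw [← conj_vv, ← conj_vv, ← conj_inf, card_conj]; exact h.two⟩

theorem inc : Inc H K := h.nH.ne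

theorem c1_eq {u : G} (h1 : u ∈ vv H) (h2 : u ∈ vv K) (h3 : u ≠ 1) : C1[u] = vv H ⊔ vv K :=
  h.syl.maximal _ (h.cit u (vv_sq h1) h3) le_top
    (h.t_le_c.trans (centralizer_le_singleton (mem_inf.2 ⟨h1, h2⟩)))

theorem mem_of_conj {g u : G} (h1 : u ∈ vv H) (h3 : u ≠ 1) (h4 : g * u * g⁻¹ ∈ vv H) : g ∈ H := by
  obtain ⟨z, hz, hz1⟩ := exists_ne_one h.inc
  obtain ⟨a, ha, rfl⟩ := h.nH.trans hz.1 hz1 h1 h3
  obtain ⟨b, hb, e⟩ := h.nH.trans hz.1 hz1 h4 (by simpa using hz1)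
  have : b⁻¹ * g * a ∈ H := h.t_le ((h.c1_eq hz.1 hz.2 hz1).le (mem_C1.2 (by
    rw [show b⁻¹ * g * a * z = b⁻¹ * (g * (a * z * a⁻¹) * g⁻¹) * g * a by group, ← e]; group)))
  rwa [mul_mem_cancel_right ha, mul_mem_cancel_left (inv_mem hb)] at this

theorem uniq {p p' : Subgroup G} (hp : Cj H p) (hp' : Cj H p') {z : G} (h1 : z ∈ vv p)
    (h2 : z ∈ vv p') (h3 : z ≠ 1) : p = p' := by
  obtain ⟨g, rfl⟩ := hp.symm.trans hp'
  obtain ⟨x, rfl⟩ := hp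
  rw [← conj_vv, mem_map_conj] at h2
  have := (h.conj x).mem_of_conj (g := g⁻¹) h1 h3 (by rwa [inv_inv])
  rw [conj_eq_of_mem (inv_mem_iff.1 this)]

theorem mem_iff_eq {p : Subgroup G} (hp : Cj H p) {g : G} : g •ᶜ p = p ↔ g ∈ p := by
  refine ⟨fun e => ?_, conj_eq_of_mem⟩
  obtain ⟨x, rfl⟩ := hp
  obtain ⟨z, hz, hz1⟩ := exists_ne_one (h.conj x).inc
  exact (h.conj x).mem_of_conj hz.1 hz1 (e ▸ mem_vv_conj hz.1 g)

theorem exists_line {p : Subgroup G} (hp : Cj H p) {z : G} (h1 : z ∈ vv p) (h3 : z ≠ 1) :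
    ∃ l, Cj K l ∧ Pl p l ∧ z ∈ vv l := by
  obtain ⟨x, rfl⟩ := hp
  obtain ⟨u, hu, hu1⟩ := exists_ne_one (h.conj x).inc
  obtain ⟨a, ha, rfl⟩ := (h.conj x).nH.trans hu.1 hu1 h1 h3
  exact ⟨_, (Cj.refl K).conj x |>.conj a,
    by simpa only [conj_eq_of_mem ha] using (h.conj x).conj a, mem_vv_conj hu.2 a⟩

theorem flag {p l : Subgroup G} (hp : Cj H p) (hl : Cj K l) (hi : Inc p l) : Pl p l := by
  obtain ⟨z, hz, hz1⟩ := exists_ne_one hi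
  obtain ⟨l', h1, h2, h3⟩ := h.exists_line hp hz.1 hz1
  exact h.symm.uniq h1 hl h3 hz.2 hz1 ▸ h2

theorem exists_flag {z : G} (h2 : z * z = 1) (h1 : z ≠ 1) :
    ∃ p l, Cj H p ∧ Cj K l ∧ z ∈ vv p ∧ z ∈ vv l := by
  obtain ⟨g, -, hg⟩ := h.syl.exists_conj_le (U := zpowers z) (IsPGroup.of_card (n := 1) (by
    rw [Nat.card_zpowers, orderOf_eq_prime (by rwa [sq]) h1]; rfl)) le_top
  have h3 : z ∈ vv (g⁻¹ •ᶜ H) ⊔ vv (g⁻¹ •ᶜ K) := by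
    rw [← conj_vv, ← conj_vv, ← conj_sup]
    exact map_conj_le_iff.1 hg (mem_zpowers z)
  rcases (h.conj g⁻¹).invol h3 h2 with h4 | h4
  · obtain ⟨l, h5, -, h6⟩ := h.exists_line ⟨_, rfl⟩ h4 h1
    exact ⟨_, l, ⟨_, rfl⟩, h5, h4, h6⟩
  · obtain ⟨l, h5, -, h6⟩ := h.symm.exists_line ⟨_, rfl⟩ h4 h1
    exact ⟨l, _, h5, ⟨_, rfl⟩, h6, h4⟩

theorem le_of_inc {p l : Subgroup G} (hp : Cj H p) (hl : Cj K l) (hi : Inc p l) : vv l ≤ p :=
  le_sup_right.trans (h.flag hp hl hi).t_le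

theorem inc_of_mem' {q l : Subgroup G} (hq : Cj H q) (hl : Cj K l) {z : G} (h1 : z ∈ vv l)
    (h2 : z ≠ 1) (h3 : z ∈ q) : Inc q l := by
  obtain ⟨x, rfl⟩ := hq
  obtain ⟨g, hg, e⟩ := ((h.conj x).syl.mono (h.conj x).t_le le_top).exists_conj_le
    ((vv_p l).to_le (zpowers_le.2 h1)) (zpowers_le.2 h3)
  have h4 := (h.conj x).conj g⁻¹
  have h5 := map_conj_le_iff.1 e (mem_zpowers z)
  rw [conj_sup, conj_vv, conj_vv] at h5
  rw [conj_eq_of_mem (inv_mem hg)] at h4 h5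
  rcases h4.invol h5 (vv_sq h1) with h6 | h6
  · exact inc_of_mem h6 h1 h2
  · exact h.symm.uniq (((Cj.refl K).conj x).conj g⁻¹) hl h6 h1 h2 ▸ h4.inc

theorem uniq_line {p p' l l' : Subgroup G} (hp : Cj H p) (hp' : Cj H p') (hl : Cj K l)
    (hl' : Cj K l') (h1 : Inc p l) (h2 : Inc p' l) (h3 : Inc p l') (h4 : Inc p' l') :
    p = p' ∨ l = l' := by
  obtain ⟨z, hz, hz1⟩ := exists_ne_one h3
  obtain ⟨u, hu, hu1⟩ := exists_ne_one (pg_inf_centralizer_ne_bot ((vv_p p').to_inf_left)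
    ((vv_p p).to_le (zpowers_le.2 hz.1)) (zpowers_le.2 (pg_le_normalizer_inf
      (inf_le_left.trans (le_n_vv p')) (inf_le_right.trans (le_n_vv l)) (mem_inf.2
        ⟨h.le_of_inc hp' hl' h4 hz.2, h.symm.le_of_inc hl hp h1.symm hz.1⟩))) h2)
  have h5 := h.flag hp' hl h2
  rcases h5.invol ((h5.c1_eq hu.1.1 hu.1.2 hu1).le (mem_C1.2
    (mem_centralizer_iff.1 hu.2 z (mem_zpowers z)))) (vv_sq hz.1) with h6 | h6
  exacts [Or.inl (h.uniq hp hp' hz.1 h6 hz1), Or.inr (h.symm.uniq hl hl' h6 hz.2 hz1)]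

theorem inf_eq_bot {l : Subgroup G} (hl : Cj K l) (hne : K ≠ l) :
    vv H ⊓ vv K ⊓ (vv H ⊓ vv l) = ⊥ :=
  (eq_bot_iff_forall _).2 fun _ hz => by_contra fun h1 =>
    hne (h.symm.uniq (Cj.refl K) hl hz.1.2 hz.2.2 h1)

theorem mem_vv {l : Subgroup G} (hl : Cj K l) (hi : Inc H l) (hne : K ≠ l) {b : G}
    (h1 : b ∈ vv H ⊔ vv K) (h2 : b ∈ l) : b ∈ vv H := by
  obtain ⟨v, hv, hv1⟩ := exists_ne_one hi
  have h3 := h.inf_eq_bot hl hne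
  refine h.oH.le (h.nH.mem_o2 (h.t_le h1) (h.t_le_c h1) hv.1
    (fun hh => hv1 (mem_bot.1 (h3 ▸ mem_inf.2 ⟨hh, hv⟩))) (comm_iff.1 (mem_bot.1 (h3 ▸ mem_inf.2
      ⟨(mem_tt.1 (h.tH.ge h1)).2.2 v hv.1, comm_mem_left hv.1 (le_n_vv H (h.t_le h1)),
        comm_mem_left hv.2 (le_n_vv l h2)⟩))))

theorem exists_third {u : G} (hu1 : u ≠ 1) (h2 : u * u = 1) :
    ∃ c ∈ vv H ⊓ vv K, c ≠ 1 ∧ c ≠ u := by
  by_contra! hh
  have : (vv H ⊓ vv K : Subgroup G) ≤ zpowers u := fun c hc => by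
    by_cases e : c = 1
    · exact e ▸ one_mem _
    · exact hh c hc e ▸ mem_zpowers _
  have h4 := card_le_of_le this
  have := h.two
  rw [Nat.card_zpowers, orderOf_eq_prime (p := 2) (by rwa [sq]) hu1] at h4
  omega

theorem exists_other : ∃ l, Cj K l ∧ Inc H l ∧ K ≠ l := by
  obtain ⟨v, hv, hvU⟩ := h.nH.exists_v
  obtain ⟨l, h1, h2, h3⟩ := h.exists_line (Cj.refl H) hv fun e => hvU (e ▸ one_mem _)
  exact ⟨l, h1, h2.inc, fun e => hvU ⟨hv, e ▸ h3⟩⟩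

theorem join_aux {p : Subgroup G} (hp : Cj H p) : ∃ l, Cj K l ∧ Inc H l ∧ Inc p l := by
  by_contra! hh
  have h0 := Cj.refl H
  have k1 : ∀ u ∈ vv H, u ≠ 1 → ∀ u' ∈ vv p, u' ≠ 1 →
      ∃ s : G, s * s = 1 ∧ s * u * s⁻¹ = u' ∧ s •ᶜ H = p ∧ s •ᶜ p = H := by
    intro u hu hu1 u' hu' hu1'
    rcases Nat.even_or_odd (orderOf (u * u')) with he | ho
    · obtain ⟨m, -, h2, c1, c2⟩ := h9_central_invol_of_even (vv_sq hu) (vv_sq hu') he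
      obtain ⟨h3, h4⟩ := h9_orderOf_eq_two_iff.1 h2
      obtain ⟨q, l, hq, hl, z1, z2⟩ := h.exists_flag h4 h3
      have h5 := h.flag hq hl (inc_of_mem z1 z2 h3)
      have k : ∀ {p v}, Cj H p → v ∈ vv p → v ≠ 1 → Commute ((u * u') ^ m) v → Inc p l := by
        intro p v hp hv hv1 c
        rcases h5.invol ((h5.c1_eq z1 z2 h3).le (mem_C1.2 c.symm.eq)) (vv_sq hv) with h6 | h6
        exacts [h.uniq hq hp h6 hv hv1 ▸ h5.inc, inc_of_mem hv h6 hv1]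
      exact absurd (k hp hu' hu1' c2) (hh l hl (k h0 hu hu1 c1))
    obtain ⟨k, hk⟩ := h9_conj_of_odd (vv_sq hu) (vv_sq hu') ho
    have e1 : (u * u') ^ k * u * ((u * u') ^ k * u) = 1 := by
      have := h9_conj_pow_of_inv (h9_invol_inverts_left (vv_sq hu) (vv_sq hu')) k
      rw [vv_inv hu] at this
      rw [mul_assoc, ← mul_assoc u, this, mul_inv_cancel]
    have e2 : (u * u') ^ k * u * u * ((u * u') ^ k * u)⁻¹ = u' := Eq.trans (by group) hk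
    have e3 := h.uniq (h0.conj _) hp (e2 ▸ mem_vv_conj hu _) hu' hu1'
    exact ⟨_, e1, e2, e3, by rw [← e3, conj_conj, e1, map_conj_one]⟩
  have k2 : ∀ x ∈ H ⊓ p, Odd (orderOf x) := fun x hx => odd_of_no_invol (fun z hz h2 => by
    by_contra h1
    obtain ⟨q, l, -, hl, -, z2⟩ := h.exists_flag h2 h1
    exact hh l hl (h.inc_of_mem' h0 hl z2 h1 hz.1) (h.inc_of_mem' hp hl z2 h1 hz.2)) hx
  obtain ⟨u, hu, hu1⟩ := exists_ne_one h.inc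
  obtain ⟨s, ss, s1, s2⟩ : ∃ s : G, s * s = 1 ∧ s •ᶜ H = p ∧ s •ᶜ p = H := by
    obtain ⟨x, rfl⟩ := hp
    obtain ⟨s, h1, -, h2⟩ := k1 u hu.1 hu1 _ (mem_vv_conj hu.1 x) (by simpa using hu1)
    exact ⟨s, h1, h2⟩
  have k3 : ∀ v ∈ vv H, v ≠ 1 → ∃ y ∈ H ⊓ p, s * y * (s * y) = 1 ∧ y * u * y⁻¹ = v := by
    intro v hv hv1
    obtain ⟨t, tt, e, t1, t2⟩ := k1 u hu.1 hu1 _ (s1 ▸ mem_vv_conj hv s) (by simpa using hv1)
    refine ⟨s * t, ⟨(h.mem_iff_eq h0).1 (by rw [← conj_conj, t1, s2]),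
      (h.mem_iff_eq hp).1 (by rw [← conj_conj, t2, s1])⟩, by
        rw [← mul_assoc s s, ss, one_mul, tt], ?_⟩
    rw [show s * t * u * (s * t)⁻¹ = s * (t * u * t⁻¹) * s⁻¹ by group, e,
      show s * (s * v * s⁻¹) * s⁻¹ = (s * s) * v * (s * s)⁻¹ by group, ss]; simp
  have k4 : ∀ x ∈ H ⊓ p, s * x * s = x⁻¹ := fun x hx => by
    obtain ⟨y, hy, e1, e2⟩ := k3 _ (pg_conj_mem_of_mem_normalizer (le_n_vv H hx.1) hu.1)
      (by simpa using hu1)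
    obtain rfl : x = y := (inv_mul_eq_one.1 (h.cit.eq_one (vv_p H) hu.1 hu1 (by
      rw [mul_assoc, ← inv_mul_cancel_right (y * u) y, e2]; group)
      (k2 _ (mul_mem (inv_mem hx) hy))))
    exact eq_inv_of_mul_eq_one_left (by rw [← e1]; group)
  have k5 : ∀ x ∈ H ⊓ p, ∀ y ∈ H ⊓ p, x * y = y * x := fun x hx y hy => by
    rw [← inv_inj, ← k4 _ (mul_mem hx hy), mul_inv_rev, ← k4 x hx, ← k4 y hy,
      show s * x * s * (s * y * s) = s * x * (s * s) * y * s by group, ss]; group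
  obtain ⟨c, hc, hc1, hc2⟩ := h.exists_third hu1 (vv_sq hu.1)
  obtain ⟨x, hx, -, e⟩ := k3 c hc.1 hc1
  have k6 : ∀ m, Cj K m → Inc H m → x ∈ m := fun m hm hi => by
    obtain ⟨v, hv, hv1⟩ := exists_ne_one hi
    obtain ⟨y, hy, -, rfl⟩ := k3 v hv.1 hv1
    rw [← h.symm.mem_iff_eq hm, ← h.symm.uniq ((Cj.refl K).conj y) hm (mem_vv_conj hu.2 y) hv.2 hv1,
      conj_conj, k5 x hx y hy, ← conj_conj,
      h.symm.uniq ((Cj.refl K).conj x) (Cj.refl K) (e ▸ mem_vv_conj hu.2 x) hc.2 hc1]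
  obtain ⟨a, ha, haV⟩ := h.symm.nH.exists_v
  obtain ⟨l, hl, hi, hne⟩ := h.exists_other
  have haH := h.t_le (mem_sup_right ha)
  refine hc2 ?_
  rw [← e, eq_one_of_p (h.cit.p_cm h.t_p le_sup_left (mem_sup_right ha) fun hh => haV ⟨ha, hh⟩)
    ⟨le_n_vv H hx.1, h.mem_vv hl hi hne (mem_sup_right (comm_mem_left ha
      (le_n_vv K (k6 K (Cj.refl K) h.inc)))) (mul_mem ?_ (inv_mem (k6 l hl hi)))⟩ (k2 x hx)]
  · simp
  · have := k6 _ (hl.conj a⁻¹) (by rw [← inc_conj a⁻¹, conj_eq_of_mem (inv_mem haH)] at hi; exact hi)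
    rwa [mem_map_conj, inv_inv] at this

theorem join {p p' : Subgroup G} (hp : Cj H p) (hp' : Cj H p') :
    ∃ l, Cj K l ∧ Inc p l ∧ Inc p' l := by
  obtain ⟨x, rfl⟩ := hp
  obtain ⟨l, h1, h2⟩ := (h.conj x).join_aux (Cj.symm ⟨x, rfl⟩ |>.trans hp')
  exact ⟨l, Cj.trans ⟨x, rfl⟩ h1, h2⟩

end Pl

end Cfsg.Lib.CIT
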