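import Cfsg.Agent.Lib.CIT.Amal
import Cfsg.Agent.Lib.Transfer.Basic

/-!
# CIT groups: the configuration of two parabolic subgroups inside a Sylow 2-subgroup
-/

set_option autoImplicit false
set_option linter.unusedSectionVars false

namespace Cfsg.Lib.CIT
open Subgroup Cfsg.Lib Cfsg.Lib.FT
open scoped commutatorElement

variable {G : Type*} [Group G] [Finite G]

theorem le_or_le {E V W : Subgroup G} (h : ∀ x ∈ E, x ∈ V ∨ x ∈ W) : E ≤ V ∨ E ≤ W := by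
  by_contra! hh
  obtain ⟨a, ha, haV⟩ := SetLike.not_le_iff_exists.1 hh.1
  obtain ⟨b, hb, hbW⟩ := SetLike.not_le_iff_exists.1 hh.2
  rcases h _ (mul_mem ha hb) with h1 | h1
  · exact haV ((mul_mem_cancel_right ((h b hb).resolve_right hbW)).1 h1)
  · exact hbW ((mul_mem_cancel_left ((h a ha).resolve_left haV)).1 h1)

theorem conj_sq {E : Subgroup G} (h : ∀ x ∈ E, x * x = 1) (g : G) : ∀ x ∈ g •ᶜ E, x * x = 1 := by
  rintro _ ⟨x, hx, rfl⟩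
  rw [← map_mul, h x hx, map_one]

namespace Tri
variable {H K : Subgroup G} (h : Tri H K)
include h

theorem symm : Tri K H :=
  ⟨inf_comm (vv H) _ ▸ h.nK, inf_comm (vv H) _ ▸ h.nH, h.oK, h.oH,
    by rw [inf_comm, sup_comm, h.tK], by rw [inf_comm, sup_comm, h.tH]⟩

theorem conj (g : G) : Tri (g •ᶜ H) (g •ᶜ K) := by
  have e : vv (g •ᶜ H) ⊓ vv (g •ᶜ K) = g •ᶜ (vv H ⊓ vv K) := by rw [conj_inf, conj_vv, conj_vv]
  refine ⟨e ▸ h.nH.conj g, e ▸ h.nK.conj g, by rw [← conj_o2, ← conj_vv, h.oH],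
    by rw [← conj_o2, ← conj_vv, h.oK], ?_, ?_⟩
  · rw [e, ← conj_tt, h.tH, conj_sup, conj_vv, conj_vv]
  · rw [e, ← conj_tt, h.tK, conj_sup, conj_vv, conj_vv]

theorem cit : IsCIT G := h.nH.cit

theorem t_le : vv H ⊔ vv K ≤ H := h.tH.ge.trans (tt_le _ _)

theorem t_le' : vv H ⊔ vv K ≤ K := h.tK.ge.trans (tt_le _ _)

theorem t_p : IsPGroup 2 ↥(vv H ⊔ vv K) := h.tH ▸ h.nH.tt_p

theorem oz_t : oz (vv H ⊔ vv K) = vv H ⊓ vv K := by rw [← h.tH, h.nH.oz_tt]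

theorem t_le_c : vv H ⊔ vv K ≤ C[(vv H ⊓ vv K : Subgroup G)] := h.tH.ge.trans (tt_le_c _ _)

theorem inf_c1 {w : G} (hw : w ∈ vv K) (hwV : w ∉ vv H) : vv H ⊓ C1[w] = vv H ⊓ vv K :=
  h.nH.inf_c1 (h.tH.ge (mem_sup_right hw)) (h.oH ▸ hwV)

theorem mem_or {v w : G} (hv : v ∈ vv H) (hw : w ∈ vv K) (e : v * w = w * v) :
    v ∈ vv K ∨ w ∈ vv H :=
  or_iff_not_imp_right.2 fun hh => ((h.inf_c1 hw hh).le (mem_inf.2 ⟨hv, mem_C1.2 e⟩)).2

theorem exists_mul {t : G} (ht : t ∈ vv H ⊔ vv K) : ∃ v ∈ vv H, ∃ w ∈ vv K, v * w = t :=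
  (pg_mem_sup_of_le_normalizer_left (le_sup_right.trans (h.t_le.trans (le_n_vv H)))).1 ht

theorem sq_eq {v w : G} (hv : v ∈ vv H) (hw : w ∈ vv K) : v * w * (v * w) = ⁅v, w⁆ := by
  rw [commutatorElement_def, vv_inv hv, vv_inv hw]; group

theorem sq_mem {t : G} (ht : t ∈ vv H ⊔ vv K) : t * t ∈ vv H ⊓ vv K := by
  obtain ⟨v, hv, w, hw, rfl⟩ := h.exists_mul ht
  rw [h.sq_eq hv hw]
  exact (mem_tt.1 (h.tH.ge (mem_sup_right hw))).2.2 v hv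

theorem invol {t : G} (ht : t ∈ vv H ⊔ vv K) (h2 : t * t = 1) : t ∈ vv H ∨ t ∈ vv K := by
  obtain ⟨v, hv, w, hw, rfl⟩ := h.exists_mul ht
  rw [h.sq_eq hv hw, comm_iff] at h2
  rcases h.mem_or hv hw h2 with h1 | h1
  exacts [Or.inr (mul_mem h1 hw), Or.inl (mul_mem hv h1)]

theorem elem {E : Subgroup G} (hE : E ≤ vv H ⊔ vv K) (h2 : ∀ x ∈ E, x * x = 1) :
    E ≤ vv H ∨ E ≤ vv K := le_or_le fun x hx => h.invol (hE hx) (h2 x hx)

theorem card_eq : Nat.card (vv K) = Nat.card (vv H) := h.nK.card.trans h.nH.card.symm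

theorem elem_eq {E : Subgroup G} (hE : E ≤ vv H ⊔ vv K) (h2 : ∀ x ∈ E, x * x = 1)
    (hc : Nat.card (vv H) ≤ Nat.card E) : E = vv H ∨ E = vv K :=
  (h.elem hE h2).imp (eq_of_le_of_card_ge · hc) (eq_of_le_of_card_ge · (h.card_eq ▸ hc))

theorem ne : vv H ≠ vv K := fun e => h.nH.lt.ne (by rw [← e, inf_idem])

theorem conj_or {g : G} (hg : g ∈ N[(vv H ⊔ vv K : Subgroup G)]) :
    (g •ᶜ vv H = vv H ∧ g •ᶜ vv K = vv K) ∨ (g •ᶜ vv H = vv K ∧ g •ᶜ vv K = vv H) := by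
  have h1 := h.elem_eq (map_conj_le_of_mem_normalizer le_sup_left hg)
    (conj_sq (fun _ => vv_sq) g) (card_conj g _).ge
  have h2 := h.elem_eq (map_conj_le_of_mem_normalizer le_sup_right hg)
    (conj_sq (fun _ => vv_sq) g) ((card_conj g _).trans h.card_eq).ge
  have h3 : g •ᶜ vv H ≠ g •ᶜ vv K := fun e => h.ne (conj_inj.1 e)
  rcases h1 with h1 | h1 <;> rcases h2 with h2 | h2
  exacts [absurd (h1.trans h2.symm) h3, Or.inl ⟨h1, h2⟩, Or.inr ⟨h1, h2⟩,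
    absurd (h1.trans h2.symm) h3]

theorem conj_of_invol {t z : G} (ht : t ∈ vv H ⊔ vv K) (h2 : t * t = 1) (h1 : t ≠ 1)
    (hz : z ∈ vv H ⊓ vv K) (hz1 : z ≠ 1) : ∃ g : G, g * z * g⁻¹ = t := by
  rcases h.invol ht h2 with h3 | h3
  · exact (h.nH.trans hz.1 hz1 h3 h1).imp fun _ h => h.2
  · exact (h.nK.trans hz.2 hz1 h3 h1).imp fun _ h => h.2

variable {S : Sylow 2 G} (hT : vv H ⊔ vv K ≤ S) (hN : (S : Subgroup G) ⊓ N[vv H] ≤ vv H ⊔ vv K)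
include hT hN

theorem exists_z : ∃ z ∈ vv H ⊓ vv K, z ≠ 1 ∧ C1[z] = S := by
  obtain ⟨z, hz, hz1⟩ := exists_ne_one (oz_ne_bot S.isPGroup' fun e =>
    h.nH.vne (le_bot_iff.1 (e ▸ le_sup_left.trans hT)))
  refine ⟨z, h.oz_t.le ⟨hN ⟨hz.1, centralizer_le_normalizer _
    (centralizer_mono (le_sup_left.trans hT) hz.2.1)⟩, centralizer_mono hT hz.2.1, hz.2.2⟩, hz1,
    S.is_maximal' (h.cit z hz.2.2 hz1) (le_C1_iff.2 hz.2.1)⟩

theorem four (h2 : Nat.card ↥(vv H ⊓ vv K) = 2) :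
    ∃ v ∈ (S : Subgroup G), orderOf v = 2 ∧ Nat.card ↥((S : Subgroup G) ⊓ C1[v]) = 4 := by
  obtain ⟨z, hz, hz1, e⟩ := h.exists_z hT hN
  obtain ⟨v, hv, hvU⟩ := h.nH.exists_v
  have h3 : zpowers z = vv H ⊓ vv K := eq_of_le_of_card_ge (zpowers_le.2 hz) (by
    rw [h2, Nat.card_zpowers, orderOf_eq_prime (by rw [sq, vv_sq hz.1]) hz1])
  have h4 : Nat.card (vv H) = 4 := by rw [h.nH.card, h2]; rfl
  refine ⟨v, hT (mem_sup_left hv), orderOf_eq_prime (by rw [sq, vv_sq hv])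
    fun e => hvU (e ▸ one_mem _), ?_⟩
  rw [← h4]
  suffices hh : (S : Subgroup G) ⊓ C1[v] = vv H by rw [hh]
  refine le_antisymm (fun x hx => ?_) (le_inf (le_sup_left.trans hT)
    fun x hx => mem_C1.2 (vv_comm' H _ hx _ hv))
  have h5 : vv H ⊓ vv K < vv H ⊓ C1[x] := lt_of_le_of_ne (le_inf inf_le_left
    (h3 ▸ zpowers_le.2 (mem_C1_comm.1 (e.ge hx.1)))) fun e' =>
      hvU (e' ▸ mem_inf.2 ⟨hv, mem_C1_comm.1 hx.2⟩)
  have h6 := pg_mul_card_le_of_lt ((vv_p H).to_le inf_le_left) h5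
  have h7 : x ∈ C[vv H] := le_C1_iff.1
    ((eq_of_le_of_card_ge inf_le_left (by omega) : vv H ⊓ C1[x] = vv H).ge.trans inf_le_right)
  exact h.oH.le (h.cit.mem_o2 h.nH.vne (h.t_le (hN ⟨hx.1, centralizer_le_normalizer _ h7⟩)) h7)

theorem swap {g : G} (hg : g ∈ (S : Subgroup G) ⊓ N[(vv H ⊔ vv K : Subgroup G)])
    (h1 : g ∉ vv H ⊔ vv K) : g •ᶜ vv H = vv K ∧ g •ᶜ vv K = vv H :=
  (h.conj_or hg.2).resolve_left fun hh => h1 (hN ⟨hg.1, conj_eq_iff_mem_normalizer.1 hh.1⟩)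

theorem mul_mem_t {a b : G} (ha : a ∈ (S : Subgroup G) ⊓ N[(vv H ⊔ vv K : Subgroup G)])
    (hb : b ∈ (S : Subgroup G) ⊓ N[(vv H ⊔ vv K : Subgroup G)]) (h1 : a ∉ vv H ⊔ vv K)
    (h2 : b ∉ vv H ⊔ vv K) : a * b ∈ vv H ⊔ vv K :=
  hN ⟨mul_mem (mem_inf.1 ha).1 (mem_inf.1 hb).1, conj_eq_iff_mem_normalizer.1 (by
    rw [← conj_conj, (h.swap hT hN hb h2).1, (h.swap hT hN ha h1).2])⟩

theorem mem_u {e x : G} (he : e ∈ (S : Subgroup G) ⊓ N[(vv H ⊔ vv K : Subgroup G)])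
    (h1 : e ∉ vv H ⊔ vv K) (hx : x ∈ vv H ∨ x ∈ vv K) (hc : e * x = x * e) : x ∈ vv H ⊓ vv K := by
  obtain ⟨e1, e2⟩ := h.swap hT hN he h1
  have h2 : e * x * e⁻¹ = x := by rw [hc, mul_inv_cancel_right]
  rcases hx with hx | hx
  · exact ⟨hx, by rw [← e1, ← h2]; exact conj_mem_conj hx e⟩
  · exact ⟨by rw [← e2, ← h2]; exact conj_mem_conj hx e, hx⟩

variable (h2 : 2 < Nat.card ↥(vv H ⊓ vv K))
include h2

theorem le_t {E : Subgroup G} (hE : E ≤ (S : Subgroup G) ⊓ N[(vv H ⊔ vv K : Subgroup G)])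
    (h3 : ∀ x ∈ E, x * x = 1) (hc : Nat.card (vv H) ≤ Nat.card E) : E ≤ vv H ⊔ vv K := by
  intro e he
  by_contra h1
  have h4 : E ⊓ (vv H ⊔ vv K) ≤ vv H ⊓ vv K := fun x hx =>
    h.mem_u hT hN (hE he) h1 (h.invol hx.2 (h3 x hx.1)) (by
      rw [← mul_inv_eq_one, mul_inv_rev, inv_eq_of_mul_eq_one_right (h3 e he),
        inv_eq_of_mul_eq_one_right (h3 x hx.1), h3 _ (mul_mem he hx.1)])
  have h5 : (vv H ⊔ vv K).relIndex E = 2 := relIndex_eq_two_iff.2 ⟨e, he, fun b hb => by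
    by_cases hb' : b ∈ vv H ⊔ vv K
    · exact Or.inr ⟨hb', fun hh => h1 ((mul_mem_cancel_left hb').1 hh)⟩
    · exact Or.inl ⟨h.mul_mem_t hT hN (hE hb) (hE he) hb' h1, hb'⟩⟩
  have h6 := pg_card_eq_relIndex_mul_card_inf (vv H ⊔ vv K) E
  have h7 := card_le_of_le h4
  rw [h.nH.card] at hc
  rw [h5] at h6
  nlinarith

theorem s_le_n : (S : Subgroup G) ≤ N[(vv H ⊔ vv K : Subgroup G)] := by
  by_contra hh
  obtain ⟨g, hg, hn, hg'⟩ := exists_mem_normalizer_not_mem_of_lt_pgroup S.isPGroup'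
    (lt_of_le_of_ne inf_le_left fun e => hh (e.ge.trans inf_le_right) :
      (S : Subgroup G) ⊓ N[(vv H ⊔ vv K : Subgroup G)] < S)
  have h3 := le_inf hT le_normalizer
  refine hg' ⟨hg, pg_mem_normalizer_of_conj_mem fun x hx => (?_ : g •ᶜ _ ≤ _) (conj_mem_conj hx g)⟩
  rw [conj_sup]
  exact sup_le (h.le_t hT hN h2 (map_conj_le_of_mem_normalizer (le_sup_left.trans h3) hn)
    (conj_sq (fun _ => vv_sq) g) (card_conj g _).ge) (h.le_t hT hN h2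
      (map_conj_le_of_mem_normalizer (le_sup_right.trans h3) hn) (conj_sq (fun _ => vv_sq) g)
      ((card_conj g _).trans h.card_eq).ge)

theorem le_conj_t {E : Subgroup G} {y : G} (hE : E ≤ y •ᶜ S) (h3 : ∀ x ∈ E, x * x = 1)
    (hc : Nat.card (vv H) ≤ Nat.card E) : E ≤ y •ᶜ (vv H ⊔ vv K) := by
  rw [le_conj_iff] at hE ⊢
  exact h.le_t hT hN h2 (le_inf hE (hE.trans (h.s_le_n hT hN h2))) (conj_sq h3 _)
    (by rwa [card_conj])

theorem conj_t_eq {z y : G} (hz : z ∈ vv H ⊓ vv K) (e : C1[z] = y •ᶜ S) :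
    y •ᶜ (vv H ⊔ vv K) = vv H ⊔ vv K := by
  have h3 : vv H ⊔ vv K ≤ y •ᶜ S := e ▸ h.t_le_c.trans (centralizer_le_singleton hz)
  exact (eq_of_le_of_card_ge (sup_le
    (h.le_conj_t hT hN h2 (le_sup_left.trans h3) (fun _ => vv_sq) le_rfl)
    (h.le_conj_t hT hN h2 (le_sup_right.trans h3) (fun _ => vv_sq) h.card_eq.ge))
    (card_conj _ _).le).symm

theorem not_fused {u y : G} (hu : u ∈ (S : Subgroup G)) (huT : u ∉ vv H ⊔ vv K)
    (hy : y * u * y⁻¹ ∈ vv H ⊔ vv K) : False := by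
  obtain ⟨z, hz, hz1, ez⟩ := h.exists_z hT hN
  have hR : ∀ {a}, a ∈ (S : Subgroup G) → a ∈ (S : Subgroup G) ⊓ N[(vv H ⊔ vv K : Subgroup G)] :=
    fun ha => ⟨ha, h.s_le_n hT hN h2 ha⟩
  have k1 : ∀ t ∈ vv H ⊔ vv K, t * t = 1 → t ≠ 1 → ∃ x : G, x * z * x⁻¹ = t ∧ C1[t] = x •ᶜ S := by
    intro t ht h3 h4
    obtain ⟨x, rfl⟩ := h.conj_of_invol ht h3 h4 hz hz1
    exact ⟨x, rfl, by rw [← conj_centralizer_singleton, ez]⟩
  have hUT : vv H ⊓ vv K ≤ vv H ⊔ vv K := inf_le_sup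
  by_cases h3 : u * u = 1
  swap
  · have h4 := h.sq_mem hy
    have h5 : y * u * y⁻¹ * (y * u * y⁻¹) = y * (u * u) * y⁻¹ := by group
    rw [h5] at h4
    have h6 : u * u * (u * u) = 1 := by
      have := vv_sq h4.1
      rw [conj_mul] at this
      simpa [mul_eq_one_iff_eq_inv] using this
    have h7 := h.mul_mem_t hT hN (hR hu) (hR hu) huT huT
    obtain ⟨x, -, e⟩ := k1 _ h7 h6 h3
    have e1 := h.conj_t_eq hT hN h2 (h.mem_u hT hN (hR hu) huT (h.invol h7 h6) (by group)) e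
    have e2 := h.conj_t_eq hT hN h2 h4 (y := y * x)
      (by rw [← conj_centralizer_singleton, e, conj_conj])
    rw [← conj_conj, e1] at e2
    exact huT (conj_mem_conj_iff.1 (e2.symm ▸ hy))
  have hu1 : u ≠ 1 := fun e => huT (e ▸ one_mem _)
  obtain ⟨x, e1, e2⟩ : ∃ x : G, x * z * x⁻¹ = u ∧ C1[u] = x •ᶜ S := by
    obtain ⟨x, e, -⟩ := k1 _ hy (by rw [conj_mul, h3]; simp) (by simpa using hu1)
    have : y⁻¹ * x * z * (y⁻¹ * x)⁻¹ = u := by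
      rw [show y⁻¹ * x * z * (y⁻¹ * x)⁻¹ = y⁻¹ * (x * z * x⁻¹) * y by group, e]; group
    exact ⟨_, this, by rw [← this, ← conj_centralizer_singleton, ez]⟩
  have k2 : ∀ c ∈ vv H ⊓ vv K, c ≠ 1 → c ∉ x •ᶜ (vv H ⊔ vv K) := by
    intro c hc hc1 hcx
    obtain ⟨w, -, e⟩ := k1 c (hUT hc) (vv_sq hc.1) hc1
    have hx := h.conj x
    rw [conj_sup, conj_vv, conj_vv] at hcx
    have key : ∀ {L : Subgroup G}, z ∈ vv L → c ∈ vv (x •ᶜ L) →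
        Nat.card (vv L) = Nat.card (vv H) → False := fun {L} h4 h5 h6 => by
      refine huT (h.conj_t_eq hT hN h2 hc e ▸ h.le_conj_t hT hN h2 (E := vv (x •ᶜ L))
        (e ▸ fun a ha => mem_C1.2 (vv_comm' _ _ ha _ h5)) (fun _ => vv_sq)
        (by rw [← conj_vv, card_conj, h6]) ?_)
      rw [← conj_vv, ← e1]
      exact conj_mem_conj h4 x
    rcases hx.invol hcx (vv_sq hc.1) with h4 | h4
    exacts [key hz.1 h4 rfl, key hz.2 h4 h.card_eq]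
  have k3 : ∀ a ∈ C1[u], ∀ b ∈ C1[u], a ∉ x •ᶜ (vv H ⊔ vv K) → b ∉ x •ᶜ (vv H ⊔ vv K) →
      a * b ∈ x •ᶜ (vv H ⊔ vv K) := by
    intro a ha b hb h4 h5
    rw [e2] at ha hb
    rw [mem_map_conj] at ha hb h4 h5 ⊢
    exact mem_of_mem_of_eq (h.mul_mem_t hT hN (hR ha) (hR hb) h4 h5) (by group)
  have k4 : ∀ a ∈ vv H ⊓ vv K, ∀ b ∈ vv H ⊓ vv K, a ≠ 1 → b ≠ 1 → a ∈ C1[u] → b ∈ C1[u] →
      a = b := by
    intro a ha b hb h4 h5 h6 h7
    by_contra h8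
    exact k2 _ (mul_mem ha hb) (fun e => h8 (by
      rw [← vv_inv (mem_inf.1 hb).1]; exact eq_inv_of_mul_eq_one_left e))
      (k3 a h6 b h7 (k2 a ha h4) (k2 b hb h5))
  obtain ⟨s1, s2⟩ := h.swap hT hN (hR hu) huT
  have hui : u⁻¹ = u := inv_eq_of_mul_eq_one_right h3
  obtain ⟨v, hv, hvU⟩ := h.nH.exists_v
  obtain ⟨w, ew⟩ : ∃ w, w = u * v * u⁻¹ := ⟨_, rfl⟩
  have hw : w ∈ vv K := by rw [← s1, ew]; exact conj_mem_conj hv u
  have ev : u * w * u⁻¹ = v := by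
    rw [ew, hui, show u * (u * v * u) * u = (u * u) * v * (u * u) by group, h3]; simp
  have hwV : w ∉ vv H := fun hh => hvU ⟨hv, by rw [← s1, ← ev]; exact conj_mem_conj hh u⟩
  have hvw : v * w ∈ vv H ⊔ vv K := mul_mem (mem_sup_left hv) (mem_sup_right hw)
  have hz' := h.sq_mem hvw
  have hz1' : v * w * (v * w) ≠ 1 := fun e => by
    rw [h.sq_eq hv hw, comm_iff] at e
    exact (h.mem_or hv hw e).elim (fun hh => hvU ⟨hv, hh⟩) hwV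
  have e3 : u * (v * w) * u⁻¹ = (v * w)⁻¹ := by
    rw [← conj_mul, ← ew, ev, mul_inv_rev, vv_inv hv, vv_inv hw]
  have hzu : v * w * (v * w) ∈ C1[u] := by
    rw [mem_C1, eq_comm, ← mul_inv_eq_iff_eq_mul, ← conj_mul, e3, ← mul_inv_rev, vv_inv hz'.1]
  obtain ⟨c, hc, hc1, hc2⟩ : ∃ c ∈ vv H ⊓ vv K, c ≠ 1 ∧ c ≠ v * w * (v * w) := by
    by_contra! hh
    have : (vv H ⊓ vv K : Subgroup G) ≤ zpowers (v * w * (v * w)) := fun c hc => by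
      by_cases e : c = 1
      · exact e ▸ one_mem _
      · exact hh c hc e ▸ mem_zpowers _
    have h4 := card_le_of_le this
    rw [Nat.card_zpowers, orderOf_eq_prime (p := 2) (by rw [sq, vv_sq hz'.1]) hz1'] at h4
    omega
  have hcu : u * c * u⁻¹ ∈ vv H ⊓ vv K := by
    rw [← h.oz_t] at hc ⊢
    exact pg_conj_mem_of_mem_normalizer (n_oz (hR hu).2) hc
  have h4 : c ∉ C1[u] := fun hh => hc2 (k4 _ hc _ hz' hc1 hz1' hh hzu)
  have h5 := vv_comm' H _ hc.1 _ hcu.1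
  have h6 : c * (u * c * u⁻¹) = v * w * (v * w) := by
    refine k4 _ (mul_mem hc hcu) _ hz' (fun e => h4 (mem_C1.2 ?_)) hz1' (mem_C1.2 ?_) hzu
    · rw [eq_comm, ← mul_inv_eq_iff_eq_mul]
      exact (eq_inv_of_mul_eq_one_right e).trans (vv_inv hc.1)
    · rw [eq_comm, ← mul_inv_eq_iff_eq_mul, ← conj_mul, h5, hui,
        show u * (u * c * u) * u = (u * u) * c * (u * u) by group, h3]; simp
  have h7 := mem_centralizer_iff.1 (h.t_le_c hvw) c hc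
  have h8 : v * w * c ∈ C1[u] := by
    rw [mem_C1, eq_comm, ← mul_inv_eq_iff_eq_mul, ← conj_mul, e3, inv_mul_eq_iff_eq_mul,
      ← mul_assoc, ← h6, h5, mul_assoc _ c c, vv_sq hc.1, mul_one]
  have h9 : v * w * c * (v * w * c) = v * w * (v * w) := by
    rw [mul_assoc _ c, ← mul_assoc c, h7, mul_assoc _ c c, vv_sq hc.1, mul_one]
  refine k2 _ hz' hz1' (h9 ▸ ?_)
  by_cases h10 : v * w * c ∈ x •ᶜ (vv H ⊔ vv K)
  exacts [mul_mem h10 h10, k3 _ h8 _ h8 h10 h10]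

theorem eq_sylow (hG : pResidual 2 G = ⊤) : vv H ⊔ vv K = S := by
  refine le_antisymm hT (sylow_le_of_fusion hG S _ fun x hx g hg => ?_)
  by_cases h3 : x ∈ vv H ⊔ vv K <;> by_cases h4 : g * x * g⁻¹ ∈ vv H ⊔ vv K
  · exact mul_mem (inv_mem h3) h4
  · exact (h.not_fused hT hN h2 hg h4 (y := g⁻¹) (by simpa [mul_assoc] using h3)).elim
  · exact (h.not_fused hT hN h2 hx h3 h4).elim
  · exact h.mul_mem_t hT hN (mem_inf.2 ⟨inv_mem hx, h.s_le_n hT hN h2 (inv_mem hx)⟩)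
      ⟨hg, h.s_le_n hT hN h2 hg⟩ (by simpa using h3) h4

end Tri

end Cfsg.Lib.CIT
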